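import Cfsg.Agent.Lib.FeitSmall.CaseA
import Cfsg.Agent.Lib.FeitSmall.Main

/-!
# Eigenspaces of elements of order `p`
-/

namespace CfsgLib.LinearSmall

open Cfsg CfsgLib.FeitSmall CfsgLib.Blocks CfsgLib.Blocks.DefectOne CfsgLib.CharTheory
open CfsgLib.CharTheory.SmallDegree CfsgLib.SmallSylow Finset

set_option linter.unusedVariables false
set_option linter.style.haveILetI false
set_option linter.unusedSectionVars false

universe u v

variable {p : ℕ} [Fact p.Prime] {G : Type u} [Group G] [Fintype G] {V : Type v} [AddCommGroup V]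
  [Module ℂ V] [FiniteDimensional ℂ V]

/-- Multiplicities are dimensions of eigenspaces. -/
theorem mult_eq_finrank (R : Representation ℂ G V) {x : G} (hx : x ^ p = 1) (z : ZMod p) :
    mult x R.character z = (Module.finrank ℂ (Module.End.eigenspace (R x) (psi p z)) : ℂ) := by
  set E := Module.End.eigenspace (R x) (psi p z)
  have hp0 : (p : ℂ) ≠ 0 := Nat.cast_ne_zero.2 (Fact.out : p.Prime).ne_zero
  set A : Module.End ℂ V := (p : ℂ)⁻¹ • ∑ k : ZMod p, psi p (-(z * k)) • R (xp x k) with hA
  have hfix : ∀ v ∈ E, ∀ k : ZMod p, R (xp x k) v = psi p (z * k) • v := by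
    intro v hv k
    have h1 : ∀ n : ℕ, R (x ^ n) v = (psi p z) ^ n • v := by
      intro n
      induction n with
      | zero => rw [pow_zero, map_one, pow_zero, one_smul, Module.End.one_apply]
      | succ n ih =>
        rw [pow_succ', map_mul, Module.End.mul_apply, ih, map_smul, Module.End.mem_eigenspace_iff.1 hv,
          smul_smul, pow_succ]
    rw [xp, h1, ← AddChar.map_nsmul_eq_pow, nsmul_eq_mul, ZMod.natCast_zmod_val, mul_comm]
  have hmem : ∀ v, A v ∈ E := by
    intro v
    rw [Module.End.mem_eigenspace_iff, hA, LinearMap.smul_apply, LinearMap.sum_apply, map_smul, map_sum,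
      smul_comm (psi p z), Finset.smul_sum (r := psi p z)]
    congr 1
    refine Fintype.sum_equiv (Equiv.addLeft 1) _ _ fun k => ?_
    rw [Equiv.coe_addLeft, LinearMap.smul_apply, LinearMap.smul_apply, map_smul, ← Module.End.mul_apply,
      ← map_mul, xp_add hx, xp_one, smul_smul, ← AddChar.map_add_eq_mul,
      show z + -(z * (1 + k)) = -(z * k) by ring]
  have hproj : LinearMap.IsProj E A := by
    refine ⟨hmem, fun v hv => ?_⟩
    rw [hA, LinearMap.smul_apply, LinearMap.sum_apply, Finset.sum_congr rfl fun k _ => show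
      (psi p (-(z * k)) • R (xp x k)) v = v by
      rw [LinearMap.smul_apply, hfix v hv, smul_smul, ← AddChar.map_add_eq_mul, neg_add_cancel,
        AddChar.map_zero_eq_one, one_smul], sum_const, card_univ, ZMod.card, ← Nat.cast_smul_eq_nsmul ℂ,
      smul_smul, inv_mul_cancel₀ hp0, one_smul]
  rw [← hproj.trace, hA, map_smul, map_sum, mult, smul_eq_mul]
  congr 1
  refine Finset.sum_congr rfl fun k _ => ?_
  rw [map_smul, smul_eq_mul, mul_comm]
  rfl

theorem mult_conj_elt {f : G → ℂ} (hf : IsClassFunction G f) (g x : G) (z : ZMod p) :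
    mult (g * x * g⁻¹) f z = mult x f z := by
  rw [mult, mult]
  congr 1
  refine Finset.sum_congr rfl fun k _ => ?_
  rw [xp, conj_pow, hf]; rfl

theorem mult_xp {x : G} (hx : x ^ p = 1) (f : G → ℂ) {i : ZMod p} (hi : i ≠ 0) (z : ZMod p) :
    mult (xp x i) f z = mult x f (z / i) := by
  rw [mult, mult]
  congr 1
  refine Fintype.sum_equiv (Equiv.mulRight₀ i hi) _ _ fun k => ?_
  rw [Equiv.mulRight₀_apply, show xp (xp x i) k = xp x (k * i) by rw [mul_comm, xp_mul hx, xp],
    show z / i * (k * i) = z * k by field_simp]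

/-- Eigenspaces of an element of order `p` in a small irreducible group with Sylow order `p`. -/
theorem eigen_bounds (R : Representation ℂ G V) (hR : Function.Injective R) [R.IsIrreducible]
    (hd : Module.finrank ℂ V + 1 < p) (hp5 : 5 ≤ p) (P : Sylow p G) (hP : Nat.card P = p)
    (hnn : ¬ (P : Subgroup G).Normal) {y : G} (hy : y ^ p = 1) (hy1 : y ≠ 1) :
    y ∈ commutator G ∧ (∀ μ : ℂ, Module.finrank ℂ (Module.End.eigenspace (R y) μ) ≤ 1) ∧
      Module.finrank ℂ (Module.End.eigenspace (R y) 1) + (p - 1) / 2 ≤ Module.finrank ℂ V := by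
  classical
  obtain ⟨x, e, t, D⟩ := exists_data P hP
  let ζ : IrrCharacter G := ⟨R.character, isIrrCharacter_character R⟩
  have hζ : (ζ : G → ℂ) = R.character := rfl
  have hdeg : charDegree (ζ : G → ℂ) = Module.finrank ℂ V := by
    apply Nat.cast_injective (R := ℂ)
    rw [irr_charDegree_cast, hζ, R.char_one]
  have hfaith : ∀ g : G, (ζ : G → ℂ) g = (ζ : G → ℂ) 1 → g = 1 := fun g hg =>
    hR (by rw [rep_apply_eq_one_of_char_eq R hg, map_one])
  obtain ⟨M, hM⟩ := exists_isPModular (Fact.out : p.Prime)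
  haveI : NeZero e := ⟨D.A.epos⟩
  letI : Fintype (P : Subgroup G) := Fintype.ofFinite _
  letI : Fintype (cen (P : Subgroup G)) := Fintype.ofFinite _
  letI : Fintype (Subgroup.center G) := Fintype.ofFinite _
  -- `y` is conjugate to a power of `x`
  obtain ⟨Q, hQ⟩ := (IsPGroup.of_card (n := 1) (by rw [Nat.card_zpowers, pow_one,
    orderOf_eq_prime hy hy1]) : IsPGroup p (Subgroup.zpowers y)).exists_le_sylow
  obtain ⟨g, hg⟩ := MulAction.exists_smul_eq G Q P
  have hgy : g * y * g⁻¹ ∈ (P : Subgroup G) := by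
    rw [← hg, Sylow.coe_subgroup_smul]
    exact Subgroup.smul_mem_pointwise_smul y (MulAut.conj g) _ (hQ (Subgroup.mem_zpowers y))
  obtain ⟨i, hi⟩ := D.exists_xp hgy
  have hi0 : i ≠ 0 := fun h0 => hy1 (by rwa [h0, xp_zero, conj_eq_one_iff] at hi)
  have hmult : ∀ z : ZMod p, mult y (ζ : G → ℂ) z = mult x (ζ : G → ℂ) (z / i) := fun z => by
    rw [← mult_conj_elt (isClassFunction_irr ζ.2) g y, hi, mult_xp D.pow _ hi0]
  have hA := D.A.mul
  have hshape : 2 ≤ e ∧ (∀ z : ZMod p, ∃ m : ℕ, m ≤ 1 ∧ mult x (ζ : G → ℂ) z = m) ∧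
      ∃ m : ℕ, mult x (ζ : G → ℂ) (0 : ZMod p) = m ∧ m + (p - 1) / 2 ≤ Module.finrank ℂ V := by
    rcases structure_cases D hM ζ hfaith (by omega) (D.inf_center hnn) with
      ⟨a, ha, hA'⟩ | ⟨ht, hH, a, ha, hS⟩
    · obtain ⟨rfl, hdeg2⟩ := caseA_degree D hp5 ζ hfaith (by omega) hnn ha hA'
      rw [hdeg] at hdeg2
      obtain ⟨m, hm⟩ := D.mult_nat (isCharacter_of_irr ζ.2) a
      have hcos : ∀ z, z / a ∈ rts p e → mult x (ζ : G → ℂ) z = m := fun z hz => by
        rw [← hm, ← D.mult_mul_rts (isClassFunction_irr ζ.2) hz a, mul_div_cancel₀ _ ha]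
      have hsum : (Module.finrank ℂ V : ℂ) = ((e * m : ℕ) : ℂ) := by
        rw [← hdeg, irr_charDegree_cast, ← sum_mult (x := x) (p := p) (ζ : G → ℂ),
          ← Finset.sum_subset (Finset.subset_univ ((rts p e).image (a * ·))) (fun z _ hz =>
            hA' z fun h => hz ((mem_coset ha).2 h)),
          Finset.sum_congr rfl fun z hz => hcos z ((mem_coset ha).1 hz),
          sum_const, card_coset D.A ha, nsmul_eq_mul, Nat.cast_mul]
      have hdm : Module.finrank ℂ V = e * m := by exact_mod_cast hsum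
      have hfe : Module.finrank ℂ V = e := by omega
      have hm1 : m = 1 := by
        refine Nat.eq_of_mul_eq_mul_left (Nat.pos_of_ne_zero D.A.epos) ?_
        omega
      subst hm1
      refine ⟨by omega, fun z => ?_, 0, ?_, by omega⟩
      · by_cases hz : z / a ∈ rts p e
        · exact ⟨1, le_rfl, hcos z hz⟩
        · exact ⟨0, Nat.zero_le _, by rw [hA' z hz, Nat.cast_zero]⟩
      · rw [hA' 0 (zero_div_notMem D.A a), Nat.cast_zero]
    · have hdeg2 := hS.degree D.A ha
      rw [hdeg] at hdeg2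
      have h2e : 2 * e + 1 ≤ p := by
        have := Nat.mul_le_mul_right e ht
        omega
      refine ⟨by omega, fun z => ?_, 1, ?_, by omega⟩
      · rw [hS z]
        split_ifs
        · exact ⟨0, Nat.zero_le _, by norm_num⟩
        · exact ⟨1, le_rfl, by norm_num⟩
      · rw [hS 0, if_neg (zero_div_notMem D.A a), mul_zero, add_zero]
  obtain ⟨he2, hle, m₀, hm₀, hm₀le⟩ := hshape
  refine ⟨?_, fun μ => ?_, ?_⟩
  · have h1 : g * y * g⁻¹ ∈ commutator G := D.le_commutator he2 hgy
    have h2 := (inferInstance : (commutator G).Normal).conj_mem _ h1 g⁻¹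
    simpa [mul_assoc] using h2
  · by_cases hμ : Module.End.eigenspace (R y) μ = ⊥
    · rw [hμ, finrank_bot]; exact Nat.zero_le _
    obtain ⟨v, hv, hv0⟩ := (Submodule.ne_bot_iff _).1 hμ
    have hμp : μ ^ p = 1 := by
      have h1 : ∀ n : ℕ, R (y ^ n) v = μ ^ n • v := by
        intro n
        induction n with
        | zero => rw [pow_zero, map_one, pow_zero, one_smul, Module.End.one_apply]
        | succ n ih =>
          rw [pow_succ', map_mul, Module.End.mul_apply, ih, map_smul, Module.End.mem_eigenspace_iff.1 hv,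
            smul_smul, pow_succ]
      have h2 := h1 p
      rw [hy, map_one, Module.End.one_apply] at h2
      exact smul_left_injective ℂ hv0 (h2.symm.trans (one_smul ℂ v).symm)
    obtain ⟨k, hk, hkμ⟩ := (psi_primitive (p := p)).eq_pow_of_pow_eq_one hμp
    rw [← AddChar.map_nsmul_eq_pow, nsmul_one] at hkμ
    obtain ⟨m, hm, hme⟩ := hle ((k : ZMod p) / i)
    rw [← hmult, hζ, mult_eq_finrank R hy, hkμ, Nat.cast_inj] at hme
    omega
  · have h1 := hmult 0
    rw [zero_div, hm₀, hζ, mult_eq_finrank R hy, AddChar.map_zero_eq_one, Nat.cast_inj] at h1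
    omega

end CfsgLib.LinearSmall
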