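import Cfsg.Agent.Lib.LinearSmall.Scalars
import Cfsg.Agent.Lib.LinearSmall.Eigen
import Cfsg.Agent.Lib.SmallRep.Main

/-!
# The large constituent of a subgroup that is not `p`-closed
-/

namespace CfsgLib.LinearSmall

open Cfsg CfsgLib.CharTheory
open CfsgLib.LinearGroups.SmallClosed (PCl)

set_option linter.unusedVariables false
set_option linter.style.haveILetI false
set_option linter.unusedSectionVars false

universe u v

/-- The statement about groups of order less than `N`. -/
def Small (p N : ℕ) : Prop :=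
  ∀ (H : Type u) [Group H] [Finite H], Nat.card H < N → ∀ (d : ℕ) (R : Representation ℂ H (Fin d → ℂ)),
    Function.Injective R → R.IsIrreducible → d + 1 < p → ¬ p ∣ Nat.card (Subgroup.center H) →
      ∀ P : Sylow p H, ¬ (P : Subgroup H).Normal → Nat.card P = p

variable {p : ℕ} [Fact p.Prime] {G : Type u} [Group G] [Finite G] {V : Type v} [AddCommGroup V]
  [Module ℂ V] [FiniteDimensional ℂ V]

/-- `p`-closed on an invariant subspace. -/
def ClosedOn (p : ℕ) (R : Representation ℂ G V) (W : Subrepresentation R) : Prop :=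
  ∀ x y : G, (∃ k, x ^ p ^ k = 1) → (∃ k, y ^ p ^ k = 1) →
    ∃ k, ∀ v ∈ W.toSubmodule, R ((x * y) ^ p ^ k) v = v

/-- `g` acts on `W` as a scalar. -/
def ScalarOn (R : Representation ℂ G V) (W : Subrepresentation R) (g : G) : Prop :=
  ∃ c : ℂ, ∀ v ∈ W.toSubmodule, R g v = c • v

theorem fix_of_pow {R : Representation ℂ G V} {g : G} {v : V} {i j : ℕ}
    (h : R (g ^ p ^ i) v = v) : R (g ^ p ^ (i + j)) v = v := by
  rw [pow_add, pow_mul]
  generalize g ^ p ^ i = z at h
  induction (p ^ j) with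
  | zero => rw [pow_zero, map_one, Module.End.one_apply]
  | succ n ih => rw [pow_succ, map_mul, Module.End.mul_apply, h, ih]

theorem ClosedOn.sup {R : Representation ℂ G V} {A B : Subrepresentation R} (hA : ClosedOn p R A)
    (hB : ClosedOn p R B) : ClosedOn p R (A ⊔ B) := by
  intro x y hx hy
  obtain ⟨i, hi⟩ := hA x y hx hy
  obtain ⟨j, hj⟩ := hB x y hx hy
  refine ⟨i + j, fun v hv => ?_⟩
  rw [Subrepresentation.toSubmodule_sup, Submodule.mem_sup] at hv
  obtain ⟨a, ha, b, hb, rfl⟩ := hv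
  rw [map_add, fix_of_pow (hi a ha), add_comm i, fix_of_pow (hj b hb)]

/-- The image on an invariant subspace. -/
theorem exists_image (R : Representation ℂ G V) (W : Subrepresentation R) :
    ∃ (I : Type u) (_ : Group I) (_ : Finite I) (π : G →* I) (σ : Representation ℂ I W.toSubmodule),
      Nat.card I ≤ Nat.card G ∧ Function.Surjective π ∧ Function.Injective σ ∧
      (∀ g (v : W.toSubmodule), (σ (π g) v : V) = R g v) ∧
      (W.toRepresentation.IsIrreducible → σ.IsIrreducible) ∧ (PCl p I → ClosedOn p R W) := by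
  classical
  set ψ := MonoidHom.toHomUnits W.toRepresentation with hψ
  let σ : Representation ℂ (G ⧸ ψ.ker) W.toSubmodule := (Units.coeHom _).comp (QuotientGroup.kerLift ψ)
  have hσ : ∀ g, σ (QuotientGroup.mk' ψ.ker g) = W.toRepresentation g := fun g => rfl
  have hval : ∀ g (v : W.toSubmodule), (σ (QuotientGroup.mk' ψ.ker g) v : V) = R g v := fun g v => rfl
  refine ⟨G ⧸ ψ.ker, inferInstance, inferInstance, QuotientGroup.mk' ψ.ker, σ,
    Nat.card_le_card_of_surjective _ (QuotientGroup.mk'_surjective _), QuotientGroup.mk'_surjective _,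
    fun a b h => QuotientGroup.kerLift_injective ψ (Units.ext h), hval, fun h => ?_, fun h x y hx hy => ?_⟩
  · haveI := h
    exact isIrreducible_of_scaled W.toRepresentation σ (QuotientGroup.mk' ψ.ker)
      (fun g => ⟨1, one_ne_zero, by rw [one_smul]; exact hσ g⟩) (QuotientGroup.mk'_surjective _)
  · obtain ⟨i, hi⟩ := hx
    obtain ⟨j, hj⟩ := hy
    obtain ⟨k, hk⟩ := h (QuotientGroup.mk' ψ.ker x) (QuotientGroup.mk' ψ.ker y)
      ⟨i, by rw [← map_pow, hi, map_one]⟩ ⟨j, by rw [← map_pow, hj, map_one]⟩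
    refine ⟨k, fun v hv => ?_⟩
    rw [← hval _ ⟨v, hv⟩, map_pow, map_mul, hk, map_one]
    rfl

/-- Groups with a faithful representation of degree less than `(p - 1) / 2` are `p`-closed. -/
theorem pcl_half (R : Representation ℂ G V) (hR : Function.Injective R)
    (hd : 2 * Module.finrank ℂ V + 1 < p) : PCl p G := by
  classical
  set f := Module.finrank ℂ V
  set σ := conjRep R (Module.finBasis ℂ V).equivFun with hσ
  have hσi : Function.Injective σ := fun a b h => hR ((Module.finBasis ℂ V).equivFun.conj.injective h)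
  have hfaith : CfsgLib.LinearGroups.Faith f G :=
    ⟨σ.character, isCharacter_character σ, fun g hg => hσi (by
      rw [rep_apply_eq_one_of_char_eq σ hg, map_one]),
      f, by rw [σ.char_one, Module.finrank_fintype_fun_eq_card, Fintype.card_fin], le_rfl⟩
  refine CfsgLib.LinearGroups.SmallClosed.pcl_of_small (p := p) (n := f) _ G rfl hfaith (by omega)
    (Or.inr fun K hK => ?_)
  obtain ⟨Q⟩ := (inferInstance : Nonempty (Sylow p K))
  refine CfsgLib.LinearGroups.SmallClosed.pcl_of_normal Q ?_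
  by_cases hp : p ∣ Nat.card K
  · obtain ⟨x, hx⟩ := exists_prime_orderOf_dvd_card' p hp
    have hQ : Nat.card Q = p ^ 1 := by
      obtain ⟨i, hi⟩ := IsPGroup.iff_card.1 Q.2
      have h1 : p ^ 1 ∣ Nat.card (Q : Subgroup K) := Q.pow_dvd_card_of_pow_dvd_card (by rwa [pow_one])
      rcases i with _ | _ | i
      · rw [hi, pow_zero, pow_one, Nat.dvd_one] at h1; exact absurd h1 (Fact.out : p.Prime).ne_one
      · exact hi
      · exact absurd ((Nat.pow_dvd_pow p (by omega)).trans
          (hi ▸ Subgroup.card_subgroup_dvd_card (Q : Subgroup K))) hK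
    have hn := CfsgLib.SmallRep.normal_of_small_degree hd K x hx hK (σ.comp K.subtype)
      (hσi.comp Subtype.val_injective)
    obtain ⟨S, hS⟩ := (IsPGroup.of_card (n := 1) (by rw [Nat.card_zpowers, hx, pow_one]) :
      IsPGroup p (Subgroup.zpowers x)).exists_le_sylow
    haveI hSn : (S : Subgroup K).Normal := by
      have he : Subgroup.zpowers x = S := by
        refine Subgroup.eq_of_le_of_card_ge hS (le_of_eq ?_)
        rw [Nat.card_zpowers, hx, Sylow.card_eq_multiplicity, ← Sylow.card_eq_multiplicity Q, hQ, pow_one]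
      exact he ▸ hn
    haveI := Sylow.unique_of_normal S hSn
    rwa [Subsingleton.elim Q S]
  · have hbot : (Q : Subgroup K) = ⊥ := by
      obtain ⟨i, hi⟩ := IsPGroup.iff_card.1 Q.2
      rcases i with _ | i
      · exact Subgroup.eq_bot_of_card_eq _ (by rw [hi, pow_zero])
      · exact absurd ((dvd_pow_self p i.succ_ne_zero).trans
          (hi ▸ Subgroup.card_subgroup_dvd_card (Q : Subgroup K))) hp
    rw [hbot]; infer_instance

theorem closedOn_half (R : Representation ℂ G V) (W : Subrepresentation R)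
    (hW : 2 * Module.finrank ℂ W.toSubmodule + 1 < p) : ClosedOn p R W := by
  obtain ⟨I, _, _, π, σ, -, -, hσ, -, -, h⟩ := exists_image (p := p) R W
  exact h (pcl_half σ hσ hW)

/-- The large constituent. -/
theorem exists_split (R : Representation ℂ G V) (hR : Function.Injective R)
    (hd : Module.finrank ℂ V + 1 < p) (hbad : ¬ PCl p G) :
    ∃ V1 V2 : Subrepresentation R, IsCompl V1.toSubmodule V2.toSubmodule ∧
      V1.toRepresentation.IsIrreducible ∧ ¬ ClosedOn p R V1 ∧ ClosedOn p R V2 ∧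
      p ≤ 2 * Module.finrank ℂ V1.toSubmodule + 1 := by
  classical
  haveI : NeZero (Nat.card G : ℂ) := ⟨Nat.cast_ne_zero.2 Nat.card_pos.ne'⟩
  haveI : IsSemisimpleModule (MonoidAlgebra ℂ G) R.asModule := inferInstance
  haveI hcl : ComplementedLattice (Subrepresentation R) :=
    (Subrepresentation.subrepresentationSubmoduleOrderIso (ρ := R)).symm.complementedLattice
  have htop : ¬ ClosedOn p R ⊤ := fun h => hbad fun x y hx hy => by
    obtain ⟨k, hk⟩ := h x y hx hy
    refine ⟨k, hR (LinearMap.ext fun v => ?_)⟩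
    rw [hk v Submodule.mem_top, map_one, Module.End.one_apply]
  obtain ⟨W, hW, hmin⟩ : ∃ W : Subrepresentation R, ¬ ClosedOn p R W ∧ ∀ U : Subrepresentation R,
      Module.finrank ℂ U.toSubmodule < Module.finrank ℂ W.toSubmodule → ClosedOn p R U := by
    have hex : ∃ n, ∃ W : Subrepresentation R, ¬ ClosedOn p R W ∧ Module.finrank ℂ W.toSubmodule = n :=
      ⟨_, ⊤, htop, rfl⟩
    obtain ⟨W, hW, hn⟩ := Nat.find_spec hex
    refine ⟨W, hW, fun U hU => ?_⟩
    by_contra h
    exact Nat.find_min hex (hn ▸ hU) ⟨U, h, rfl⟩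
  obtain ⟨W', hW'⟩ := exists_isCompl W
  have hc : IsCompl W.toSubmodule W'.toSubmodule := by
    refine IsCompl.of_eq ?_ ?_
    · have h := congrArg Subrepresentation.toSubmodule hW'.inf_eq_bot
      exact h
    · have h := congrArg Subrepresentation.toSubmodule hW'.sup_eq_top
      exact h
  have hbig : p ≤ 2 * Module.finrank ℂ W.toSubmodule + 1 := by
    by_contra h
    exact hW (closedOn_half R W (by omega))
  have hsum := Submodule.finrank_add_eq_of_isCompl hc
  refine ⟨W, W', hc, ?_, hW, closedOn_half R W' ?_, hbig⟩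
  · haveI : Nontrivial W.toSubmodule := Module.nontrivial_of_finrank_pos (R := ℂ) (by
      have := (Fact.out : p.Prime).two_le; omega)
    have hbt : (⊥ : Subrepresentation W.toRepresentation) ≠ ⊤ := fun h =>
      bot_ne_top (congrArg Subrepresentation.toSubmodule h :
        (⊥ : Submodule ℂ W.toSubmodule) = ⊤)
    refine { exists_pair_ne := ⟨⊥, ⊤, hbt⟩, eq_bot_or_eq_top := fun U => ?_ }
    by_contra hU
    push Not at hU
    let U' : Subrepresentation R := ⟨U.toSubmodule.map W.toSubmodule.subtype, fun g v hv => by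
      obtain ⟨w, hw, rfl⟩ := hv
      exact ⟨W.toRepresentation g w, U.apply_mem_toSubmodule g hw, rfl⟩⟩
    have hU'W : U' ≤ W := fun v hv => by obtain ⟨w, -, rfl⟩ := hv; exact w.2
    obtain ⟨C, hC⟩ := exists_isCompl U'
    have hdim : Module.finrank ℂ U'.toSubmodule = Module.finrank ℂ U.toSubmodule :=
      Submodule.finrank_map_subtype_eq _ _
    have hWsplit : W.toSubmodule ≤ (U' ⊔ (C ⊓ W)).toSubmodule := by
      intro v hv
      have h : v ∈ (U' ⊔ C).toSubmodule := by rw [hC.sup_eq_top]; exact Submodule.mem_top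
      rw [Subrepresentation.toSubmodule_sup, Submodule.mem_sup] at h ⊢
      obtain ⟨a, ha, b, hb, rfl⟩ := h
      refine ⟨a, ha, b, ⟨hb, ?_⟩, rfl⟩
      have h2 := W.toSubmodule.sub_mem hv (hU'W ha)
      rwa [add_sub_cancel_left] at h2
    have hsum' := Submodule.finrank_sup_add_finrank_inf_eq U'.toSubmodule (C ⊓ W).toSubmodule
    have hinf : U'.toSubmodule ⊓ (C ⊓ W).toSubmodule = ⊥ := by
      have h : U'.toSubmodule ⊓ C.toSubmodule = ⊥ := congrArg Subrepresentation.toSubmodule hC.inf_eq_bot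
      rw [Subrepresentation.toSubmodule_inf, ← inf_assoc, h, bot_inf_eq]
    rw [hinf, finrank_bot] at hsum'
    have hle : U'.toSubmodule ⊔ (C ⊓ W).toSubmodule ≤ W.toSubmodule := sup_le hU'W inf_le_right
    have hle' := Submodule.finrank_mono hle
    have hUlt : Module.finrank ℂ U.toSubmodule < Module.finrank ℂ W.toSubmodule :=
      Submodule.finrank_lt fun h => hU.2 (Subrepresentation.toSubmodule_injective h)
    have hUpos : 0 < Module.finrank ℂ U.toSubmodule := Nat.pos_of_ne_zero fun h =>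
      hU.1 (Subrepresentation.toSubmodule_injective (Submodule.finrank_eq_zero.1 h))
    refine hW fun x y hx hy => ?_
    obtain ⟨k, hk⟩ := (hmin U' (by omega)).sup (hmin (C ⊓ W) (by omega)) x y hx hy
    exact ⟨k, fun v hv => hk v (hWsplit hv)⟩
  · omega

theorem finrank_eigen_inf (R : Representation ℂ G V) (W : Subrepresentation R) (T : Module.End ℂ W.toSubmodule)
    (g : G) (hT : ∀ v : W.toSubmodule, (T v : V) = R g v) (μ : ℂ) :
    Module.finrank ℂ (Module.End.eigenspace T μ) =
      Module.finrank ℂ ↥(Module.End.eigenspace (R g) μ ⊓ W.toSubmodule) := by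
  rw [← Submodule.finrank_map_subtype_eq]
  suffices h : Submodule.map W.toSubmodule.subtype (T.eigenspace μ) =
      Module.End.eigenspace (R g) μ ⊓ W.toSubmodule by rw [h]
  · ext v
    simp only [Submodule.mem_map, Module.End.mem_eigenspace_iff, Submodule.mem_inf]
    constructor
    · rintro ⟨w, hw, rfl⟩
      exact ⟨by rw [Submodule.coe_subtype, ← hT, hw, Submodule.coe_smul], w.2⟩
    · rintro ⟨h1, h2⟩
      exact ⟨⟨v, h2⟩, Subtype.ext (by rw [hT, Submodule.coe_smul]; exact h1), rfl⟩

/-- Properties of the large constituent, by induction. -/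
theorem constituent_bounds {N : ℕ} (IH : Small.{u} p N) (hlt : Nat.card G < N) (hp5 : 5 ≤ p)
    (R : Representation ℂ G V) (W : Subrepresentation R) (hW : ¬ ClosedOn p R W)
    (hirr : W.toRepresentation.IsIrreducible) (hd : Module.finrank ℂ W.toSubmodule + 1 < p) :
    (∀ q : G, (∃ k, q ^ p ^ k = 1) → ¬ ScalarOn R W q → ∀ μ : ℂ,
      Module.finrank ℂ ↥(Module.End.eigenspace (R q) μ ⊓ W.toSubmodule) ≤ 1) ∧
    (∀ q : G, (∃ k, q ^ p ^ k = 1) → ¬ ScalarOn R W q →
      ∃ x ∈ commutator G, (∃ k, x ^ p ^ k = 1) ∧ ∃ c : ℂ, ∀ v ∈ W.toSubmodule, R q v = c • R x v) ∧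
    (∀ x ∈ commutator G, (∃ k, x ^ p ^ k = 1) → ¬ ScalarOn R W x →
      Module.finrank ℂ ↥(Module.End.eigenspace (R x) 1 ⊓ W.toSubmodule) + (p - 1) / 2 ≤
        Module.finrank ℂ W.toSubmodule) ∧
    (∀ T : Subgroup G, IsPGroup p T → (∀ y ∈ T, y ≠ 1 → ¬ ScalarOn R W y) → Nat.card T ≤ p) := by
  classical
  obtain ⟨I, _, _, π, σ, hcard, hπ, hσ, hσv, hσirr, hIcl⟩ := exists_image (p := p) R W
  haveI := hσirr hirr
  obtain ⟨Gb, _, _, τ, R', hτ, hR', hR'irr, hZ, hscal, hkc, hkp, hcomm⟩ := exists_twist σ hσ hd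
  haveI := hR'irr
  have hnb : ¬ PCl p Gb := fun h => hW (hIcl (pcl_of_map τ hkp h))
  obtain ⟨P⟩ := (inferInstance : Nonempty (Sylow p Gb))
  have hnn : ¬ (P : Subgroup Gb).Normal := fun h =>
    hnb (CfsgLib.LinearGroups.SmallClosed.pcl_of_normal P h)
  set f := Module.finrank ℂ W.toSubmodule with hf
  set E := (Module.finBasis ℂ W.toSubmodule).equivFun
  have hP : Nat.card P = p := IH Gb
    ((Nat.card_le_card_of_surjective τ hτ).trans hcard |>.trans_lt hlt) f (conjRep R' E)
    (fun a b h => hR' (E.conj.injective h)) (isIrreducible_of_equiv (conjRepEquiv R' E)) hd hZ P hnn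
  letI : Fintype Gb := Fintype.ofFinite _
  have hord : ∀ y : Gb, (∃ k, y ^ p ^ k = 1) → y ^ p = 1 := by
    intro y ⟨k, hk⟩
    have hpg : IsPGroup p (Subgroup.zpowers y) := by
      rintro ⟨_, n, rfl⟩
      refine ⟨k, Subtype.ext ?_⟩
      show (y ^ n) ^ p ^ k = 1
      rw [← zpow_natCast, ← zpow_mul, mul_comm, zpow_mul, zpow_natCast, hk, one_zpow]
    obtain ⟨Q, hQ⟩ := hpg.exists_le_sylow
    have hQp : Nat.card (Q : Subgroup Gb) = p := by
      rw [Sylow.card_eq_multiplicity, ← Sylow.card_eq_multiplicity P, hP]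
    have h := congrArg Subtype.val (pow_card_eq_one' (x := (⟨y, hQ (Subgroup.mem_zpowers y)⟩ : (Q : Subgroup Gb))))
    rwa [hQp] at h
  have hne : ∀ q : G, ¬ ScalarOn R W q → τ (π q) ≠ 1 := by
    intro q hq h
    obtain ⟨c, hc⟩ := exists_scalar_of_mem_center σ (hkc _ h)
    refine hq ⟨c, fun v hv => ?_⟩
    rw [← hσv q ⟨v, hv⟩, hc]
    rfl
  have himp : ∀ q : G, (∃ k, q ^ p ^ k = 1) → τ (π q) ^ p = 1 := fun q ⟨k, hk⟩ =>
    hord _ ⟨k, by rw [← map_pow, ← map_pow, hk, map_one, map_one]⟩
  have hb := fun (q : G) (hq : ∃ k, q ^ p ^ k = 1) (hs : ¬ ScalarOn R W q) =>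
    eigen_bounds R' hR' hd hp5 P hP hnn (himp q hq) (hne q hs)
  have hsurj : (commutator G).map (τ.comp π) = commutator Gb := by
    rw [commutator_def, Subgroup.map_commutator, Subgroup.map_top_of_surjective _ (show Function.Surjective ⇑(τ.comp π) by rw [MonoidHom.coe_comp]; exact hτ.comp hπ)]
    rfl
  refine ⟨fun q hq hs μ => ?_, fun q hq hs => ?_, fun x hx hxp hs => ?_, fun T hT hTs => ?_⟩
  · obtain ⟨c, hc, hcq⟩ := hscal (π q)
    have h := (hb q hq hs).2.1 (c * μ)
    rwa [hcq, show Module.End.eigenspace (c • σ (π q)) (c * μ) = Module.End.eigenspace (σ (π q)) μ by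
      ext v
      rw [Module.End.mem_eigenspace_iff, Module.End.mem_eigenspace_iff, LinearMap.smul_apply, mul_smul]
      exact (smul_right_injective _ hc).eq_iff,
      finrank_eigen_inf R W _ q (hσv q)] at h
  · obtain ⟨x₀, hx₀, hx₀q⟩ : τ (π q) ∈ (commutator G).map (τ.comp π) := hsurj ▸ (hb q hq hs).1
    obtain ⟨a, m, hm, hN⟩ :=
      Nat.exists_eq_pow_mul_and_not_dvd (Nat.card_pos (α := G)).ne' p (Fact.out : p.Prime).ne_one
    obtain ⟨k, hk1, hk2⟩ := Nat.chineseRemainder
      (((Fact.out : p.Prime).coprime_iff_not_dvd.2 hm).pow_left (a + 1)) 1 0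
    obtain ⟨l, hl⟩ := Nat.modEq_zero_iff_dvd.1 hk2
    refine ⟨x₀ ^ k, (commutator G).pow_mem hx₀ k, ⟨a, ?_⟩, ?_⟩
    · rw [← pow_mul, show k * p ^ a = p ^ a * m * l by rw [hl]; ring, pow_mul, ← hN, pow_card_eq_one',
        one_pow]
    · obtain ⟨c, hc, hcq⟩ := hscal (π q)
      have h1 : τ (π (x₀ ^ k)) = τ (π q) := by
        rw [map_pow, map_pow, show τ (π x₀) = τ (π q) from hx₀q, pow_eq_pow_mod k (himp q hq),
          (hk1.of_dvd (dvd_pow_self p a.succ_ne_zero)), ← pow_eq_pow_mod 1 (himp q hq), pow_one]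
      have h2 : π (x₀ ^ k) ∈ commutator I := by
        have h := Subgroup.mem_map_of_mem π ((commutator G).pow_mem hx₀ k)
        rwa [commutator_def, Subgroup.map_commutator, Subgroup.map_top_of_surjective _ hπ,
          ← commutator_def] at h
      refine ⟨c⁻¹, fun v hv => ?_⟩
      rw [← hσv q ⟨v, hv⟩, ← hσv (x₀ ^ k) ⟨v, hv⟩, ← Submodule.coe_smul, ← hcomm _ h2, h1, hcq,
        LinearMap.smul_apply, inv_smul_smul₀ hc]
  · have h := (hb x hxp hs).2.2
    have h2 : π x ∈ commutator I := by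
      have h' := Subgroup.mem_map_of_mem π hx
      rwa [commutator_def, Subgroup.map_commutator, Subgroup.map_top_of_surjective _ hπ,
        ← commutator_def] at h'
    rwa [hcomm _ h2, finrank_eigen_inf R W _ x (hσv x)] at h
  · obtain ⟨S, hS⟩ := (hT.map (τ.comp π)).exists_le_sylow
    have hinj : Function.Injective ((τ.comp π).subgroupMap T) := by
      rw [injective_iff_map_eq_one]
      intro y hy
      by_contra h1
      exact hne y (hTs y y.2 fun h => h1 (Subtype.ext h)) (congrArg Subtype.val hy)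
    refine (Nat.card_le_card_of_injective _ hinj).trans ((Subgroup.card_le_of_le hS).trans (le_of_eq ?_))
    rw [Sylow.card_eq_multiplicity, ← Sylow.card_eq_multiplicity P, hP]

end CfsgLib.LinearSmall
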