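import Cfsg.Agent.Lib.LinearSmall.Key
import Cfsg.Agent.Lib.Blocks.PermTrace
import Cfsg.Agent.Lib.Blocks.Vanishing

/-!
# Homologies of order five in degree three
-/

namespace CfsgLib.LinearSmall

open Cfsg CfsgLib.CharTheory CfsgLib.Blocks

set_option linter.unusedVariables false
set_option linter.style.haveILetI false
set_option linter.unusedSectionVars false

universe u v

variable {p : ℕ} [Fact p.Prime] {G : Type u} [Group G] [Finite G] {V : Type v} [AddCommGroup V]
  [Module ℂ V] [FiniteDimensional ℂ V] {R : Representation ℂ G V}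

/-- A homology with centre `v` and axis the kernel of `φ`. -/
structure Homol (p : ℕ) (R : Representation ℂ G V) (s : G) (μ : ℂ) (v : V) (φ : V →ₗ[ℂ] ℂ) : Prop where
  act : ∀ x, R s x = μ • (x + φ x • v)
  ne : φ v ≠ 0
  pel : ∃ k, s ^ p ^ k = 1
  root : ∃ k, μ ^ p ^ k = 1
  root' : ∃ k, (1 + φ v) ^ p ^ k = 1

theorem scalar_pow {g : G} {c : ℂ} {v : V} (h : R g v = c • v) (n : ℕ) : R (g ^ n) v = c ^ n • v := by
  induction n with
  | zero => rw [pow_zero, map_one, pow_zero, one_smul, Module.End.one_apply]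
  | succ n ih => rw [pow_succ', map_mul, Module.End.mul_apply, ih, map_smul, h, smul_smul, pow_succ]

theorem root_of_eigen {g : G} {c : ℂ} {v : V} {k : ℕ} (hg : g ^ p ^ k = 1) (hv : v ≠ 0)
    (h : R g v = c • v) : c ^ p ^ k = 1 := by
  have h2 := scalar_pow h (p ^ k)
  rw [hg, map_one, Module.End.one_apply] at h2
  exact smul_left_injective ℂ hv (h2.symm.trans (one_smul ℂ v).symm)

theorem homol_pow_apply {g : G} {μ : ℂ} {v : V} {φ : V →ₗ[ℂ] ℂ}
    (h : ∀ x, R g x = μ • (x + φ x • v)) (h0 : φ v = 0) (n : ℕ) (x : V) :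
    R (g ^ n) x = μ ^ n • (x + ((n : ℂ) * φ x) • v) := by
  induction n generalizing x with
  | zero => simp
  | succ n ih =>
    rw [pow_succ, map_mul, Module.End.mul_apply, h, map_smul, ih, map_add, map_smul φ, h0, smul_zero,
      add_zero, smul_smul, pow_succ', Nat.cast_succ, add_mul, one_mul, add_smul]
    congr 1
    abel

/-- A `p`-element with an eigenspace of dimension two is a homology. -/
theorem exists_homol (hM : Min p R) (hV : Module.finrank ℂ V = 3) {g : G} (hg : ∃ k, g ^ p ^ k = 1)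
    (hg1 : g ≠ 1) {μ : ℂ} (hμ : 2 ≤ Module.finrank ℂ (Module.End.eigenspace (R g) μ)) :
    ∃ v φ, Homol p R g μ v φ := by
  classical
  set Eg := Module.End.eigenspace (R g) μ
  obtain ⟨k, hk⟩ := hg
  obtain ⟨a, haE, ha0⟩ : ∃ a ∈ Eg, a ≠ 0 :=
    Submodule.exists_mem_ne_zero_of_ne_bot fun h => by rw [h, finrank_bot] at hμ; omega
  have hμk : μ ^ p ^ k = 1 := root_of_eigen hk ha0 (Module.End.mem_eigenspace_iff.1 haE)
  have hμ0 : μ ≠ 0 := fun h => by
    rw [h, zero_pow (pow_ne_zero _ (Fact.out : p.Prime).ne_zero)] at hμk; exact zero_ne_one hμk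
  have hEne : Eg ≠ ⊤ := fun h => hg1 (central_eq_one hM ⟨k, hk⟩ (mem_center_of_scalar hM fun x =>
    Module.End.mem_eigenspace_iff.1 ((h ▸ Submodule.mem_top : x ∈ Eg))))
  set D : Module.End ℂ V := μ⁻¹ • R g - 1 with hD
  have hker : LinearMap.ker D = Eg := by
    ext x
    rw [LinearMap.mem_ker, hD, LinearMap.sub_apply, LinearMap.smul_apply, Module.End.one_apply, sub_eq_zero,
      inv_smul_eq_iff₀ hμ0, Module.End.mem_eigenspace_iff]
  have hrank := LinearMap.finrank_range_add_finrank_ker D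
  rw [hker] at hrank
  have hlt := Submodule.finrank_lt hEne
  obtain ⟨⟨v, hv⟩, hv0, hspan⟩ := finrank_eq_one_iff'.1
    (show Module.finrank ℂ (LinearMap.range D) = 1 by omega)
  have hv0' : v ≠ 0 := fun h => hv0 (Subtype.ext h)
  choose φf hφf using fun x : V => hspan ⟨D x, LinearMap.mem_range_self D x⟩
  have hφf' : ∀ x, φf x • v = D x := fun x => congrArg Subtype.val (hφf x)
  let φ : V →ₗ[ℂ] ℂ :=
    { toFun := φf
      map_add' := fun x y => smul_left_injective ℂ hv0' (by
        show φf (x + y) • v = (φf x + φf y) • v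
        rw [add_smul, hφf', hφf', hφf', map_add])
      map_smul' := fun c x => smul_left_injective ℂ hv0' (by
        show φf (c • x) • v = (c • φf x) • v
        rw [smul_assoc, hφf', hφf', map_smul]) }
  have hact : ∀ x, R g x = μ • (x + φ x • v) := fun x => by
    show _ = μ • (x + φf x • v)
    rw [hφf', hD, LinearMap.sub_apply, LinearMap.smul_apply, Module.End.one_apply, add_sub_cancel,
      smul_inv_smul₀ hμ0]
  have hne : φ v ≠ 0 := by
    intro h0
    apply hEne
    rw [eq_top_iff]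
    intro x _
    have h1 := homol_pow_apply hact h0 (p ^ k) x
    rw [hk, map_one, Module.End.one_apply, hμk, one_smul, left_eq_add, smul_eq_zero] at h1
    rw [Module.End.mem_eigenspace_iff, hact x, (mul_eq_zero.1 (h1.resolve_right hv0')).resolve_left
      (Nat.cast_ne_zero.2 (pow_ne_zero _ (Fact.out : p.Prime).ne_zero)), zero_smul, add_zero]
  refine ⟨v, φ, hact, hne, ⟨k, hk⟩, ⟨k, hμk⟩, ⟨k, ?_⟩⟩
  have h := root_of_eigen hk hv0' (c := μ * (1 + φ v)) (by
    rw [hact, mul_smul, add_smul, one_smul])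
  rwa [mul_pow, hμk, one_mul] at h

/-- A homology with ratio of order `p` among the powers. -/
theorem exists_homol_pow (hM : Min p R) (hV : Module.finrank ℂ V = 3) {g : G} (hg : ∃ k, g ^ p ^ k = 1)
    (hg1 : g ≠ 1) {μ : ℂ} (hμ : 2 ≤ Module.finrank ℂ (Module.End.eigenspace (R g) μ)) :
    ∃ n v φ, Homol p R (g ^ n) (μ ^ n) v φ ∧ (1 + φ v) ^ p = 1 := by
  classical
  obtain ⟨v, φ, h⟩ := exists_homol hM hV hg hg1 hμ
  have hv0 : v ≠ 0 := fun h0 => h.ne (by rw [h0, map_zero])
  obtain ⟨k, hk⟩ := h.root'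
  obtain ⟨j, -, hj⟩ := (Nat.dvd_prime_pow (Fact.out : p.Prime)).1 (orderOf_dvd_of_pow_eq_one hk)
  rcases j with _ | j
  · exfalso
    rw [pow_zero, orderOf_eq_one_iff, add_eq_left] at hj
    exact h.ne hj
  obtain ⟨m, hm⟩ := hg
  set n := p ^ j
  have hgv : R (g ^ n) v = (μ ^ n * (1 + φ v) ^ n) • v := by
    rw [← mul_pow]
    exact scalar_pow (by rw [h.act, mul_smul, add_smul, one_smul]) n
  have hle : Module.End.eigenspace (R g) μ ≤ Module.End.eigenspace (R (g ^ n)) (μ ^ n) := fun x hx =>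
    Module.End.mem_eigenspace_iff.2 (scalar_pow (Module.End.mem_eigenspace_iff.1 hx) n)
  have hμn : μ ^ n ≠ 0 := pow_ne_zero _ fun h0 => by
    obtain ⟨i, hi⟩ := h.root
    rw [h0, zero_pow (pow_ne_zero _ (Fact.out : p.Prime).ne_zero)] at hi
    exact zero_ne_one hi
  have hord : (1 + φ v) ^ n ≠ 1 := fun h1 => by
    have h2 := orderOf_dvd_of_pow_eq_one h1
    rw [hj] at h2
    have := (Nat.pow_dvd_pow_iff_le_right (Fact.out : p.Prime).one_lt).1 h2
    omega
  have hgn1 : g ^ n ≠ 1 := fun h1 => by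
    have hμ1 : μ ^ n = 1 := by
      obtain ⟨a, ha, ha0⟩ : ∃ a ∈ Module.End.eigenspace (R g) μ, a ≠ 0 :=
        Submodule.exists_mem_ne_zero_of_ne_bot fun h => by rw [h, finrank_bot] at hμ; omega
      have h2 := Module.End.mem_eigenspace_iff.1 (hle ha)
      rw [h1, map_one, Module.End.one_apply] at h2
      exact smul_left_injective ℂ ha0 (h2.symm.trans (one_smul ℂ a).symm)
    rw [h1, map_one, Module.End.one_apply, hμ1, one_mul] at hgv
    exact hord (smul_left_injective ℂ hv0 (hgv.symm.trans (one_smul ℂ v).symm))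
  obtain ⟨w, ψ, h'⟩ := exists_homol hM hV ⟨m, by rw [← pow_mul, mul_comm, pow_mul, hm, one_pow]⟩ hgn1
    (hμ.trans (Submodule.finrank_mono hle))
  refine ⟨n, w, ψ, h', ?_⟩
  -- `v` spans the range
  have h1 : ψ v • w = ((1 + φ v) ^ n - 1) • v := by
    have h2 := h'.act v
    rw [hgv, mul_smul] at h2
    have h3 := smul_right_injective V hμn h2
    rw [sub_smul, one_smul, h3, add_sub_cancel_left]
  have h4 : ψ v * ψ w = ((1 + φ v) ^ n - 1) * ψ v := by
    have := congrArg ψ h1
    rwa [map_smul, map_smul] at this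
  have h5 : ψ v ≠ 0 := fun h0 => by
    rw [h0, zero_smul, eq_comm, smul_eq_zero, sub_eq_zero] at h1
    exact h1.elim hord hv0
  have h6 : ψ w = (1 + φ v) ^ n - 1 := mul_left_cancel₀ h5 (by rw [h4, mul_comm])
  rw [h6, add_sub_cancel, ← pow_mul, ← pow_succ, ← hj, pow_orderOf_eq_one]

variable {M : Ideal AlgInt}

/-- A local integer in the maximal ideal. -/
def Low (hM : IsPModular p M) (z : ℂ) : Prop := MemLocalRing M z ∧ res hM z = 0

theorem Low.add {hM : IsPModular p M} {a b : ℂ} (ha : Low hM a) (hb : Low hM b) : Low hM (a + b) :=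
  ⟨(loc hM).add_mem ha.1 hb.1, by rw [res_add hM ha.1 hb.1, ha.2, hb.2, add_zero]⟩

theorem Low.mul {hM : IsPModular p M} {a b : ℂ} (ha : MemLocalRing M a) (hb : Low hM b) : Low hM (a * b) :=
  ⟨(loc hM).mul_mem ha hb.1, by rw [res_mul hM ha hb.1, hb.2, mul_zero]⟩

theorem low_root (hM : IsPModular p M) {v : V} {φ : V →ₗ[ℂ] ℂ} (h : ∃ k, (1 + φ v) ^ p ^ k = 1) :
    Low hM (φ v) := by
  obtain ⟨k, hk⟩ := h
  obtain ⟨h1, h2⟩ := res_eq_one_of_pow hM hk
  rw [show φ v = (1 + φ v) + -1 by ring]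
  refine ⟨(loc hM).add_mem h1 ((loc hM).neg_mem (loc hM).one_mem), ?_⟩
  rw [res_add hM h1 ((loc hM).neg_mem (loc hM).one_mem), h2, res_neg hM (loc hM).one_mem, res_one,
    add_neg_cancel]

theorem tau_mem (hP : IsPModular p M) (hV : Module.finrank ℂ V = 3) {s z : G} {μ μ' : ℂ} {v w : V}
    {φ ψ : V →ₗ[ℂ] ℂ} (hs : Homol p R s μ v φ) (hz : Homol p R z μ' w ψ) :
    MemLocalRing M (φ w * ψ v) := by
  haveI := Fintype.ofFinite G
  set e : Module.End ℂ V := φ.smulRight v
  set f : Module.End ℂ V := ψ.smulRight w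
  have hsz : R (s * z) = (μ * μ') • (1 + e + f + e * f) := by
    refine LinearMap.ext fun x => ?_
    simp only [map_mul, Module.End.mul_apply, hz.act, map_smul, hs.act, e, f, LinearMap.smul_apply,
      LinearMap.add_apply, Module.End.one_apply, LinearMap.coe_smulRight, map_add, smul_add, smul_smul,
      add_smul, mul_add]
    module
  have htr : R.character (s * z) = μ * μ' * (3 + φ v + ψ w + φ w * ψ v) := by
    show LinearMap.trace ℂ V (R (s * z)) = _
    rw [hsz, map_smul, map_add, map_add, map_add, LinearMap.trace_one, hV, LinearMap.trace_smulRight,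
      LinearMap.trace_smulRight, show e * f = ψ.smulRight (φ w • v) from LinearMap.ext fun x => by
        simp only [Module.End.mul_apply, e, f, LinearMap.coe_smulRight, map_smul, smul_smul, smul_eq_mul],
      LinearMap.trace_smulRight, map_smul, smul_eq_mul, smul_eq_mul]
    push_cast
    ring
  obtain ⟨i, hi⟩ := hs.root
  obtain ⟨j, hj⟩ := hz.root
  have hμμ : (μ * μ') ^ p ^ (i + j) = 1 := by
    rw [mul_pow, pow_add, pow_mul, hi, one_pow, one_mul, mul_comm (p ^ i), pow_mul, hj, one_pow]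
  have hne : μ * μ' ≠ 0 := fun h0 => by
    rw [h0, zero_pow (pow_ne_zero _ (Fact.out : p.Prime).ne_zero)] at hμμ; exact zero_ne_one hμμ
  have hinv : MemLocalRing M (μ * μ')⁻¹ := (res_eq_one_of_pow hP (by rw [inv_pow, hμμ, inv_one])).1
  have hval : MemLocalRing M (R.character (s * z)) :=
    memRing_of_isIntegral hP (isIntegral_of_char (isCharacter_character R) _)
  have e1 : φ w * ψ v = (μ * μ')⁻¹ * R.character (s * z) + -((3 : ℕ) + φ v + ψ w) := by
    rw [htr, ← mul_assoc, inv_mul_cancel₀ hne, one_mul]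
    push_cast
    ring
  rw [e1]
  exact (loc hP).add_mem ((loc hP).mul_mem hinv hval) ((loc hP).neg_mem ((loc hP).add_mem
    ((loc hP).add_mem (memRing_natCast hP 3) (low_root hP hs.root').1) (low_root hP hz.root').1))

/-- The product of the cross values of noncommuting homologies is a unit at `p`. -/
theorem tau_unit (hM : Min p R) (hP : IsPModular p M) (hp : p = 5) (hV : Module.finrank ℂ V = 3)
    {s z : G} {μ μ' : ℂ} {v w : V} {φ ψ : V →ₗ[ℂ] ℂ} (hs : Homol p R s μ v φ)
    (hz : Homol p R z μ' w ψ) (hsz : s * z ≠ z * s) : res hP (φ w * ψ v) ≠ 0 := by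
  classical
  intro hτ0
  haveI := Fintype.ofFinite G
  have hτ : Low hP (φ w * ψ v) := ⟨tau_mem hP hV hs hz, hτ0⟩
  have hπ := low_root hP hs.root'
  have hπ' := low_root hP hz.root'
  set e : Module.End ℂ V := φ.smulRight v with he
  set f : Module.End ℂ V := ψ.smulRight w with hf
  set τ := φ w * ψ v
  have hee : e * e = φ v • e := LinearMap.ext fun x => by
    simp only [Module.End.mul_apply, e, LinearMap.coe_smulRight, LinearMap.smul_apply, map_smul, smul_smul,
      smul_eq_mul, mul_comm]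
  have hff : f * f = ψ w • f := LinearMap.ext fun x => by
    simp only [Module.End.mul_apply, f, LinearMap.coe_smulRight, LinearMap.smul_apply, map_smul, smul_smul,
      smul_eq_mul, mul_comm]
  have hefe : e * f * e = τ • e := LinearMap.ext fun x => by
    simp only [Module.End.mul_apply, e, f, τ, LinearMap.coe_smulRight, LinearMap.smul_apply, map_smul,
      smul_smul, smul_eq_mul]
    congr 1; ring
  have hfef : f * e * f = τ • f := LinearMap.ext fun x => by
    simp only [Module.End.mul_apply, e, f, τ, LinearMap.coe_smulRight, LinearMap.smul_apply, map_smul,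
      smul_smul, smul_eq_mul]
    congr 1; ring
  have he' : ∀ X, X * e * e = φ v • (X * e) := fun X => by rw [mul_assoc, hee, mul_smul_comm]
  have hf' : ∀ X, X * f * f = ψ w • (X * f) := fun X => by rw [mul_assoc, hff, mul_smul_comm]
  have hefe' : ∀ X, X * e * f * e = τ • (X * e) := fun X => by
    rw [mul_assoc X e f, mul_assoc X (e * f) e, hefe, mul_smul_comm]
  have hfef' : ∀ X, X * f * e * f = τ • (X * f) := fun X => by
    rw [mul_assoc X f e, mul_assoc X (f * e) f, hfef, mul_smul_comm]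
  let Good : G → Prop := fun g => ∃ l a b c d : ℂ, (∃ k, l ^ p ^ k = 1) ∧ MemLocalRing M a ∧
    MemLocalRing M b ∧ MemLocalRing M c ∧ MemLocalRing M d ∧
    R g = l • (1 + (a • e + b • f + c • (e * f) + d • (f * e)))
  have h0 : MemLocalRing M 0 := (loc hP).zero_mem
  let S : Submonoid G :=
    { carrier := {g | Good g}
      one_mem' := ⟨1, 0, 0, 0, 0, ⟨0, one_pow _⟩, h0, h0, h0, h0, by simp⟩
      mul_mem' := by
        rintro g g' ⟨l, a, b, c, d, ⟨i, hl⟩, ha, hb, hc, hd, hg⟩ ⟨l', a', b', c', d', ⟨j, hl'⟩, ha', hb', hc', hd', hg'⟩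
        refine ⟨l * l', a + a' + (a * a' * φ v + a * d' * τ + c * a' * τ + c * d' * (ψ w * τ)),
          b + b' + (b * b' * ψ w + b * c' * τ + d * b' * τ + d * c' * (φ v * τ)),
          c + c' + (a * b' + a * c' * φ v + c * b' * ψ w + c * c' * τ),
          d + d' + (b * a' + b * d' * ψ w + d * a' * φ v + d * d' * τ), ⟨i + j, ?_⟩, ?_, ?_, ?_, ?_, ?_⟩
        · rw [mul_pow, pow_add, pow_mul, hl, one_pow, one_mul, mul_comm (p ^ i), pow_mul, hl', one_pow]
        · exact (loc hP).add_mem ((loc hP).add_mem ha ha') ((loc hP).add_mem ((loc hP).add_mem ((loc hP).add_mem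
            ((loc hP).mul_mem ((loc hP).mul_mem ha ha') hπ.1) ((loc hP).mul_mem ((loc hP).mul_mem ha hd') hτ.1))
            ((loc hP).mul_mem ((loc hP).mul_mem hc ha') hτ.1))
            ((loc hP).mul_mem ((loc hP).mul_mem hc hd') ((loc hP).mul_mem hπ'.1 hτ.1)))
        · exact (loc hP).add_mem ((loc hP).add_mem hb hb') ((loc hP).add_mem ((loc hP).add_mem ((loc hP).add_mem
            ((loc hP).mul_mem ((loc hP).mul_mem hb hb') hπ'.1) ((loc hP).mul_mem ((loc hP).mul_mem hb hc') hτ.1))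
            ((loc hP).mul_mem ((loc hP).mul_mem hd hb') hτ.1))
            ((loc hP).mul_mem ((loc hP).mul_mem hd hc') ((loc hP).mul_mem hπ.1 hτ.1)))
        · exact (loc hP).add_mem ((loc hP).add_mem hc hc') ((loc hP).add_mem ((loc hP).add_mem ((loc hP).add_mem
            ((loc hP).mul_mem ha hb') ((loc hP).mul_mem ((loc hP).mul_mem ha hc') hπ.1))
            ((loc hP).mul_mem ((loc hP).mul_mem hc hb') hπ'.1))
            ((loc hP).mul_mem ((loc hP).mul_mem hc hc') hτ.1))
        · exact (loc hP).add_mem ((loc hP).add_mem hd hd') ((loc hP).add_mem ((loc hP).add_mem ((loc hP).add_mem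
            ((loc hP).mul_mem hb ha') ((loc hP).mul_mem ((loc hP).mul_mem hb hd') hπ'.1))
            ((loc hP).mul_mem ((loc hP).mul_mem hd ha') hπ.1))
            ((loc hP).mul_mem ((loc hP).mul_mem hd hd') hτ.1))
        · rw [map_mul, hg, hg', smul_mul_smul_comm]
          congr 1
          simp only [mul_add, add_mul, one_mul, mul_one, smul_mul_assoc, mul_smul_comm, ← mul_assoc,
            hee, hff, hefe, hfef, he', hf', hefe', hfef', smul_smul, smul_add, smul_mul_assoc]
          module }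
  have hsS : s ∈ S := ⟨μ, 1, 0, 0, 0, hs.root, (loc hP).one_mem, h0, h0, h0, LinearMap.ext fun x => by
    simp [hs.act, e]⟩
  have hzS : z ∈ S := ⟨μ', 0, 1, 0, 0, hz.root, h0, (loc hP).one_mem, h0, h0, LinearMap.ext fun x => by
    simp [hz.act, f]⟩
  set H : Subgroup G := Subgroup.closure {s, z}
  have hHS : ∀ g ∈ H, g ∈ S := by
    intro g hg
    let S' : Subgroup G := { S with
      inv_mem' := fun {x} hx => by
        have h1 : x⁻¹ = x ^ (orderOf x - 1) := by
          refine inv_eq_of_mul_eq_one_right ?_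
          rw [← pow_succ', Nat.sub_add_cancel (orderOf_pos x), pow_orderOf_eq_one]
        rw [h1]; exact S.pow_mem hx _ }
    refine (Subgroup.closure_le S').2 ?_ hg
    rintro _ (rfl | rfl)
    exacts [hsS, hzS]
  have hres3 : ∀ g ∈ H, res hP (R.character g) = (3 : ℕ) := by
    intro g hg
    obtain ⟨l, a, b, c, d, ⟨k, hl⟩, ha, hb, hc, hd, hRg⟩ := hHS g hg
    obtain ⟨hlm, hl1⟩ := res_eq_one_of_pow hP hl
    have htr : R.character g = l * ((3 : ℕ) + ((a * φ v + b * ψ w) + (c * τ + d * τ))) := by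
      show LinearMap.trace ℂ V (R g) = _
      rw [hRg, map_smul, map_add, map_add, map_add, map_add, LinearMap.trace_one, hV, map_smul, map_smul,
        map_smul, map_smul, LinearMap.trace_smulRight, LinearMap.trace_smulRight,
        show e * f = ψ.smulRight (φ w • v) from LinearMap.ext fun x => by
          simp only [Module.End.mul_apply, e, f, LinearMap.coe_smulRight, map_smul, smul_smul, smul_eq_mul],
        show f * e = φ.smulRight (ψ v • w) from LinearMap.ext fun x => by
          simp only [Module.End.mul_apply, e, f, LinearMap.coe_smulRight, map_smul, smul_smul, smul_eq_mul],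
        LinearMap.trace_smulRight, LinearMap.trace_smulRight, map_smul, map_smul]
      simp only [smul_eq_mul, τ]
      push_cast
      ring
    have hlow : Low hP ((a * φ v + b * ψ w) + (c * τ + d * τ)) :=
      ((Low.mul ha hπ).add (Low.mul hb hπ')).add ((Low.mul hc hτ).add (Low.mul hd hτ))
    rw [htr, res_mul hP hlm ((loc hP).add_mem (memRing_natCast hP 3) hlow.1),
      res_add hP (memRing_natCast hP 3) hlow.1, hl1, hlow.2, res_natCast, add_zero, one_mul]
  have hHp : IsPGroup p H := by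
    refine IsPGroup.of_card (n := (Nat.card H).primeFactorsList.length) ?_
    by_contra hne
    obtain ⟨r, hr, hrd, hrp⟩ : ∃ r, r.Prime ∧ r ∣ Nat.card H ∧ r ≠ p := by
      by_contra hno
      push Not at hno
      exact hne (Nat.eq_prime_pow_of_unique_prime_dvd Nat.card_pos.ne' fun {r} hr hd => hno r hr hd)
    haveI : Fact r.Prime := ⟨hr⟩
    obtain ⟨g, hg⟩ := exists_prime_orderOf_dvd_card' r hrd
    set Z := Subgroup.zpowers (g : G)
    haveI := res_isDomain hP
    haveI := res_charP hP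
    haveI : Fintype Z := Fintype.ofFinite _
    have hZ : Nat.card Z = r := by rw [Nat.card_zpowers, Subgroup.orderOf_coe, hg]
    haveI : Invertible (Nat.card Z : ℂ) := invertibleOfNonzero (Nat.cast_ne_zero.2 Nat.card_pos.ne')
    set RZ : Representation ℂ Z V := R.comp Z.subtype
    have h := Representation.card_inv_mul_sum_char_eq_finrank RZ
    set m := Module.finrank ℂ (Representation.invariants RZ) with hm
    have hsum : ∑ x : Z, R.character (x : G) = ((r * m : ℕ) : ℂ) := by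
      rw [Nat.cast_mul, ← h, ← hZ, mul_inv_cancel_left₀ (Nat.cast_ne_zero.2 Nat.card_pos.ne')]
      rfl
    have h2 := congrArg (res hP) hsum
    rw [res_natCast, res_sum hP fun x _ => memRing_of_isIntegral hP
      (isIntegral_of_char (isCharacter_character R) _),
      Finset.sum_congr rfl fun x _ => hres3 _ ((Subgroup.zpowers_le.2 g.2) x.2), Finset.sum_const,
      Finset.card_univ, ← Nat.card_eq_fintype_card, hZ, nsmul_eq_mul, Nat.cast_mul] at h2
    have hr0 : (r : AlgInt ⧸ M) ≠ 0 := fun h0 => hrp ((Nat.prime_dvd_prime_iff_eq Fact.out hr).1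
      ((CharP.cast_eq_zero_iff _ p r).1 h0)).symm
    have h3 := mul_left_cancel₀ hr0 h2
    have hm3 : m ≤ 3 := hV ▸ Submodule.finrank_le _
    have hm3' : m = 3 := by
      have h4 : ((3 - m : ℕ) : AlgInt ⧸ M) = 0 := by rw [Nat.cast_sub hm3, h3, sub_self]
      have h5 := (CharP.cast_eq_zero_iff _ p _).1 h4
      by_contra hne
      have := Nat.le_of_dvd (by omega) h5
      omega
    have htop : Representation.invariants RZ = ⊤ := Submodule.eq_top_of_finrank_eq (by rw [← hm, hm3', hV])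
    have hg1 : (g : G) = 1 := hM.inj (LinearMap.ext fun x => by
      rw [map_one, Module.End.one_apply]
      exact (htop ▸ Submodule.mem_top : x ∈ Representation.invariants RZ) ⟨(g : G), Subgroup.mem_zpowers _⟩)
    rw [← Subgroup.orderOf_coe, hg1, orderOf_one] at hg
    exact hr.ne_one hg.symm
  exact hsz (abelian_p hM H hHp s (Subgroup.subset_closure (Set.mem_insert _ _)) z
    (Subgroup.subset_closure (Set.mem_insert_of_mem _ rfl)))

/-- An element commuting with a homology. -/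
theorem commute_homol {g s : G} {μ : ℂ} {v : V} {φ : V →ₗ[ℂ] ℂ} (hs : Homol p R s μ v φ)
    (hc : g * s = s * g) : ∃ l : ℂ, R g v = l • v ∧ ∀ x, φ (R g x) = l * φ x := by
  have hμ : μ ≠ 0 := fun h0 => by
    obtain ⟨k, hk⟩ := hs.root
    rw [h0, zero_pow (pow_ne_zero _ (Fact.out : p.Prime).ne_zero)] at hk; exact zero_ne_one hk
  have h1 : ∀ x, φ x • R g v = φ (R g x) • v := fun x => by
    have h := LinearMap.congr_fun (congrArg R hc) x
    rw [map_mul, map_mul, Module.End.mul_apply, Module.End.mul_apply, hs.act, hs.act, map_smul] at h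
    have h' := smul_right_injective V hμ h
    rw [map_add, map_smul] at h'
    exact add_left_cancel h'
  have hv0 : v ≠ 0 := fun h0 => hs.ne (by rw [h0, map_zero])
  refine ⟨φ (R g v) / φ v, ?_, fun x => ?_⟩
  · rw [div_eq_inv_mul, mul_smul, ← h1 v, inv_smul_smul₀ hs.ne]
  · have h2 := congrArg φ (h1 x)
    rw [map_smul, map_smul, smul_eq_mul, smul_eq_mul] at h2
    rw [div_mul_eq_mul_div, eq_div_iff hs.ne]
    linear_combination -h2

/-- A homology commuting with two noncommuting homologies, one of them given. -/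
theorem exists_pair_homol (hM : Min p R) (hp : p = 5) (hV : Module.finrank ℂ V = 3) (P : Sylow p G)
    (hnn : ¬ (P : Subgroup G).Normal) (hP : Nat.card P ≠ p) {s : G} {μs : ℂ} {v : V} {φ : V →ₗ[ℂ] ℂ}
    (hs : Homol p R s μs v φ) :
    ∃ (z t : G) (μz μt : ℂ) (w c : V) (ψ χ : V →ₗ[ℂ] ℂ),
      Homol p R z μz w ψ ∧ Homol p R t μt c χ ∧ (1 + χ c) ^ p = 1 ∧
      φ c = 0 ∧ χ v = 0 ∧ ψ c = 0 ∧ χ w = 0 ∧ s * z ≠ z * s ∧ s * t = t * s ∧ z * t = t * z := by
  classical
  have hs1 : s ≠ 1 := fun h1 => by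
    have hv0 : v ≠ 0 := fun h0 => hs.ne (by rw [h0, map_zero])
    have h := hs.act v
    rw [h1, map_one, Module.End.one_apply] at h
    obtain ⟨x, hx, hxv⟩ : ∃ x ∈ LinearMap.ker φ, x ≠ 0 :=
      Submodule.exists_mem_ne_zero_of_ne_bot fun hb => by
        have h3 := LinearMap.finrank_range_add_finrank_ker φ
        have h4 := Submodule.finrank_le (LinearMap.range φ)
        rw [hb, finrank_bot, hV] at h3
        rw [Module.finrank_self] at h4
        omega
    have h5 := hs.act x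
    rw [h1, map_one, Module.End.one_apply, LinearMap.mem_ker.1 hx, zero_smul, add_zero] at h5
    rw [smul_left_injective ℂ hxv (h5.symm.trans (one_smul ℂ x).symm), one_smul, left_eq_add,
      smul_eq_zero] at h
    exact h.elim hs.ne hv0
  obtain ⟨g, hg⟩ := exists_conj_not_comm hM P hnn hP hs.pel hs1
  set z := g * s * g⁻¹
  let Rg : V ≃ₗ[ℂ] V := LinearEquiv.ofLinearMap (R g) (R g⁻¹)
    (by ext x; rw [LinearMap.comp_apply, ← Module.End.mul_apply, ← map_mul, mul_inv_cancel, map_one]; rfl)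
    (by ext x; rw [LinearMap.comp_apply, ← Module.End.mul_apply, ← map_mul, inv_mul_cancel, map_one]; rfl)
  have hzact : ∀ x, R z x = μs • (x + (φ.comp (R g⁻¹)) x • R g v) := fun x => by
    show R (g * s * g⁻¹) x = _
    rw [map_mul, map_mul, Module.End.mul_apply, Module.End.mul_apply, hs.act, map_smul, map_add, map_smul,
      ← Module.End.mul_apply (R g) (R g⁻¹), ← map_mul, mul_inv_cancel, map_one, Module.End.one_apply]
    rfl
  have hzv : (φ.comp (R g⁻¹)) (R g v) = φ v := by
    rw [LinearMap.comp_apply, ← Module.End.mul_apply, ← map_mul, inv_mul_cancel, map_one, Module.End.one_apply]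
  have hz : Homol p R z μs (R g v) (φ.comp (R g⁻¹)) :=
    ⟨hzact, by rw [hzv]; exact hs.ne, CfsgLib.LinearGroups.SmallClosed.conj_pow_one hs.pel g, hs.root,
      by rw [hzv]; exact hs.root'⟩
  have hmult : ∀ (y : G) (w : V) (ψ : V →ₗ[ℂ] ℂ), Homol p R y μs w ψ →
      2 ≤ Module.finrank ℂ (Module.End.eigenspace (R y) μs) := fun y w ψ hy => by
    have hle : LinearMap.ker ψ ≤ Module.End.eigenspace (R y) μs := fun x hx => by
      rw [Module.End.mem_eigenspace_iff, hy.act, LinearMap.mem_ker.1 hx, zero_smul, add_zero]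
    have h1 := Submodule.finrank_mono hle
    have h2 := LinearMap.finrank_range_add_finrank_ker ψ
    have h3 := Submodule.finrank_le (LinearMap.range ψ)
    rw [Module.finrank_self] at h3
    omega
  obtain ⟨-, -, -, A, B, u, c, hAB, hA, hsA, hsB, hzA, hzB, huA, huB, hup, -, hu1⟩ :=
    large_mult hM hs.pel hz.pel hg (μ := μs) (by rw [hp]; exact hmult s v φ hs)
      (by rw [hp]; exact hmult z _ _ hz)
  rw [hp] at hA
  have huc : 2 ≤ Module.finrank ℂ (Module.End.eigenspace (R u) c) := by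
    refine le_trans (le_of_eq ?_) (Submodule.finrank_mono fun x hx =>
      Module.End.mem_eigenspace_iff.2 (huA x hx) : Module.finrank ℂ A ≤ _)
    rw [hA]
  obtain ⟨m, cc', χ, ht, htr⟩ := exists_homol_pow hM hV hup hu1 huc
  have hμ0 : ∀ {y : G} {ν : ℂ} {w : V} {ψ : V →ₗ[ℂ] ℂ}, Homol p R y ν w ψ → ν ≠ 0 := fun hy h0 => by
    obtain ⟨k, hk⟩ := hy.root
    rw [h0, zero_pow (pow_ne_zero _ (Fact.out : p.Prime).ne_zero)] at hk; exact zero_ne_one hk
  have hc0 : cc' ≠ 0 := fun h0 => ht.ne (by rw [h0, map_zero])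
  have hχA : ∀ x ∈ A, χ x = 0 := fun x hx => by
    have h := ht.act x
    rw [scalar_pow (huA x hx)] at h
    have h' := smul_right_injective V (hμ0 ht) h
    rw [left_eq_add, smul_eq_zero] at h'
    exact h'.resolve_right hc0
  have hsum := Submodule.finrank_add_eq_of_isCompl hAB
  -- the centre lies in `B`
  have hcB : cc' ∈ B := by
    obtain ⟨a, ha, b, hb, hab⟩ := Submodule.mem_sup.1 (hAB.sup_eq_top ▸ Submodule.mem_top : cc' ∈ A ⊔ B)
    have h := ht.act b
    rw [scalar_pow (huB b hb)] at h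
    have hχb : χ b ≠ 0 := fun h0 => ht.ne (by rw [← hab, map_add, hχA a ha, h0, add_zero])
    have h1 : χ b • cc' = ((μs ^ m) / c ^ m - 1) • b := by
      have h2 := congrArg (fun x => (c ^ m)⁻¹ • x) h
      simp only [smul_smul, inv_mul_cancel₀ (hμ0 ht), one_smul] at h2
      rw [sub_smul, one_smul, div_eq_inv_mul, h2, add_sub_cancel_left]
    have h3 : cc' = (χ b)⁻¹ • ((μs ^ m / c ^ m - 1) • b) := by rw [← h1, inv_smul_smul₀ hχb]
    rw [h3]
    exact B.smul_mem _ (B.smul_mem _ hb)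
  have hkill : ∀ {y : G} {w : V} {ψ : V →ₗ[ℂ] ℂ}, Homol p R y μs w ψ → (∀ x ∈ A, R y x ∈ A) →
      (∀ x ∈ B, R y x = μs • x) → ψ cc' = 0 ∧ w ∈ A := by
    intro y w ψ hy hyA hyB
    have hw0 : w ≠ 0 := fun h0 => hy.ne (by rw [h0, map_zero])
    have hkB : ∀ x ∈ B, ψ x = 0 := fun x hx => by
      have h := hy.act x
      rw [hyB x hx] at h
      have h' := smul_right_injective V (hμ0 hy) h
      rw [left_eq_add, smul_eq_zero] at h'
      exact h'.resolve_right hw0
    refine ⟨hkB _ hcB, ?_⟩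
    obtain ⟨a, ha, b, hb, hab⟩ := Submodule.mem_sup.1 (hAB.sup_eq_top ▸ Submodule.mem_top : w ∈ A ⊔ B)
    have hψa : ψ a ≠ 0 := fun h0 => hy.ne (by rw [← hab, map_add, hkB b hb, h0, add_zero])
    have h := hy.act a
    have h1 : ψ a • w = μs⁻¹ • R y a - a := by rw [h, inv_smul_smul₀ (hμ0 hy), add_sub_cancel_left]
    have h2 : w = (ψ a)⁻¹ • (μs⁻¹ • R y a - a) := by rw [← h1, inv_smul_smul₀ hψa]
    rw [h2]
    exact A.smul_mem _ (A.sub_mem (A.smul_mem _ (hyA a ha)) ha)
  obtain ⟨hφc, hvA⟩ := hkill hs hsA hsB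
  obtain ⟨hψc, hwA⟩ := hkill hz hzA hzB
  have hcomm : ∀ y : G, (∀ x ∈ A, R y x ∈ A) → (∀ x ∈ B, R y x = μs • x) → y * u ^ m = u ^ m * y := by
    intro y hyA hyB
    refine hM.inj (LinearMap.ext fun x => ?_)
    obtain ⟨a, ha, b, hb, rfl⟩ := Submodule.mem_sup.1 (hAB.sup_eq_top ▸ Submodule.mem_top : x ∈ A ⊔ B)
    simp only [map_mul, Module.End.mul_apply, map_add]
    rw [scalar_pow (huA a ha), scalar_pow (huA _ (hyA a ha)), scalar_pow (huB b hb), hyB b hb, map_smul,
      map_smul, map_smul, scalar_pow (huB b hb), hyB b hb, smul_comm (μs ^ m) μs b]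
  exact ⟨z, u ^ m, μs, c ^ m, R g v, cc', φ.comp (R g⁻¹), χ, hz, ht, htr, hφc,
    hχA v hvA, hψc, hχA _ hwA, hg, hcomm s hsA hsB, hcomm z hzA hzB⟩

/-- Elements commuting with two homologies of a decomposition commute. -/
theorem commute_of_diag (hM : Min p R) {t a : G} {μt μa : ℂ} {c va : V} {χ η : V →ₗ[ℂ] ℂ}
    (ht : Homol p R t μt c χ) (ha : Homol p R a μa va η) {c₂ : V} {χ₂ : V →ₗ[ℂ] ℂ} {k₁ k₂ k₃ : ℂ}
    (hdec : ∀ x, x = (k₁ * χ x) • c + (k₂ * χ₂ x) • c₂ + (k₃ * η x) • va) (h₁ : χ c₂ = 0) (h₂ : η c₂ = 0)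
    {g h : G} (hgt : g * t = t * g) (hga : g * a = a * g) (hht : h * t = t * h) (hha : h * a = a * h) :
    g * h = h * g := by
  have hd : ∀ y : G, y * t = t * y → y * a = a * y →
      ∃ l₁ l₂ l₃ : ℂ, R y c = l₁ • c ∧ R y c₂ = l₂ • c₂ ∧ R y va = l₃ • va := by
    intro y hyt hya
    obtain ⟨l₁, e₁, f₁⟩ := commute_homol ht hyt
    obtain ⟨l₃, e₃, f₃⟩ := commute_homol ha hya
    refine ⟨l₁, k₂ * χ₂ (R y c₂), l₃, e₁, ?_, e₃⟩
    conv_lhs => rw [hdec (R y c₂)]
    rw [f₁, f₃, h₁, h₂]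
    simp
  obtain ⟨a₁, a₂, a₃, g₁, g₂, g₃⟩ := hd g hgt hga
  obtain ⟨b₁, b₂, b₃, e₁, e₂, e₃⟩ := hd h hht hha
  refine hM.inj (LinearMap.ext fun x => ?_)
  rw [hdec x]
  simp only [map_mul, Module.End.mul_apply, map_add, map_smul, g₁, g₂, g₃, e₁, e₂, e₃, smul_smul]
  module

/-- In degree three no element of order a power of five has a repeated eigenvalue. -/
theorem five_false (hM : Min p R) (hp : p = 5) (hV : Module.finrank ℂ V = 3) (P : Sylow p G)
    (hnn : ¬ (P : Subgroup G).Normal) (hP : Nat.card P ≠ p) {q : G} (hq : ∃ k, q ^ p ^ k = 1) (hq1 : q ≠ 1)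
    {μ : ℂ} (hμ : 2 ≤ Module.finrank ℂ (Module.End.eigenspace (R q) μ)) : False := by
  classical
  haveI := Fintype.ofFinite G
  obtain ⟨M, hMod⟩ := exists_isPModular (Fact.out : p.Prime)
  haveI := res_isDomain hMod
  obtain ⟨n, v, φ, hs, -⟩ := exists_homol_pow hM hV hq hq1 hμ
  set s := q ^ n
  obtain ⟨z, t, μz, μt, w, c, ψ, χ, hz, ht, htr, hφc, hχv, hψc, hχw, hsz, hst, hzt⟩ :=
    exists_pair_homol hM hp hV P hnn hP hs
  obtain ⟨y, t₂, μy, μ₂, wy, c₂, ω, χ₂, hy, hT2, hT2r, hχc₂, hχ₂c, hωc₂, hχ₂y, hty, htt2, hyt2⟩ :=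
    exists_pair_homol hM hp hV P hnn hP ht
  have hc0 : c ≠ 0 := fun h0 => ht.ne (by rw [h0, map_zero])
  have hc20 : c₂ ≠ 0 := fun h0 => hT2.ne (by rw [h0, map_zero])
  have hz0 : ∀ {g : G} {ν : ℂ} {x : V} {ξ : V →ₗ[ℂ] ℂ}, Homol p R g ν x ξ → ν ≠ 0 := fun hg h0 => by
    obtain ⟨k, hk⟩ := hg.root
    rw [h0, zero_pow (pow_ne_zero _ (Fact.out : p.Prime).ne_zero)] at hk; exact zero_ne_one hk
  set π := χ c with hπ
  set π₂ := χ₂ c₂ with hπ₂
  obtain ⟨i, -, hi⟩ : ∃ i < p, (1 + π) ^ i = 1 + π₂ := by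
    have hprim : IsPrimitiveRoot (1 + π) p := by
      rw [IsPrimitiveRoot.iff_orderOf]
      exact orderOf_eq_prime htr fun h => ht.ne (add_eq_left.1 h)
    exact hprim.eq_pow_of_pow_eq_one hT2r
  have hπ0 : π ≠ 0 := ht.ne
  have hπ20 : π₂ ≠ 0 := hT2.ne
  have hu : 1 + π₂ ≠ 0 := fun h0 => by
    rw [h0, zero_pow (Fact.out : p.Prime).ne_zero] at hT2r; exact zero_ne_one hT2r
  have hti : ∀ j : ℕ, ∀ x, R (t ^ j) x = μt ^ j • (x + (((1 + π) ^ j - 1) / π * χ x) • c) := by
    intro j
    induction j with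
    | zero => intro x; simp
    | succ j ih =>
      intro x
      rw [pow_succ, map_mul, Module.End.mul_apply, ht.act, map_smul, ih, map_add, map_smul χ, smul_eq_mul,
        ← hπ, smul_smul, pow_succ', add_assoc, ← add_smul]
      congr 3
      rw [pow_succ']
      field_simp
      ring
  set a := t ^ i * t₂ with hadef
  set ν := μt ^ i * μ₂ with hν
  have hν0 : ν ≠ 0 := mul_ne_zero (pow_ne_zero _ (hz0 ht)) (hz0 hT2)
  have haact : ∀ x, R a x = ν • (x + χ₂ x • c₂ + (π₂ / π * χ x) • c) := fun x => by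
    rw [hadef, map_mul, Module.End.mul_apply, hT2.act, map_smul, hti, map_add, map_smul χ, hχc₂, smul_zero,
      add_zero, smul_smul, mul_comm μ₂, hi, add_sub_cancel_left]
  have hap : ∃ k, a ^ p ^ k = 1 := by
    obtain ⟨j₁, h₁⟩ := ht.pel
    obtain ⟨j₂, h₂⟩ := hT2.pel
    have hc : Commute (t ^ i) t₂ := (show Commute t t₂ from htt2).pow_left i
    refine ⟨j₁ + j₂, ?_⟩
    rw [hadef, hc.mul_pow, pow_add, pow_mul, ← pow_mul t, mul_comm i, pow_mul t, h₁, one_pow, one_pow,
      one_mul, mul_comm (p ^ j₁), pow_mul, h₂, one_pow]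
  obtain ⟨x₀, hx₀, hx₀'⟩ : ∃ x₀ ∈ LinearMap.ker χ ⊓ LinearMap.ker χ₂, x₀ ≠ 0 :=
    Submodule.exists_mem_ne_zero_of_ne_bot fun hb => by
      have h1 := Submodule.finrank_sup_add_finrank_inf_eq (LinearMap.ker χ) (LinearMap.ker χ₂)
      have h2 := LinearMap.finrank_range_add_finrank_ker χ
      have h3 := LinearMap.finrank_range_add_finrank_ker χ₂
      have h4 := Submodule.finrank_le (LinearMap.range χ)
      have h5 := Submodule.finrank_le (LinearMap.range χ₂)
      have h6 := Submodule.finrank_le (LinearMap.ker χ ⊔ LinearMap.ker χ₂)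
      rw [hb, finrank_bot] at h1
      rw [Module.finrank_self] at h4 h5
      omega
  have hax₀ : R a x₀ = ν • x₀ := by
    rw [haact, LinearMap.mem_ker.1 hx₀.1, LinearMap.mem_ker.1 hx₀.2]; simp
  have hac : R a c = (ν * (1 + π₂)) • c := by
    rw [haact, hχ₂c, zero_smul, add_zero, ← hπ, div_mul_cancel₀ _ hπ0, mul_smul ν, add_smul, one_smul]
  have hac₂ : R a c₂ = (ν * (1 + π₂)) • c₂ := by
    rw [haact, hχc₂, mul_zero, zero_smul, add_zero, ← hπ₂, mul_smul ν, add_smul, one_smul]
  have hane : a ≠ 1 := fun h1 => by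
    rw [h1, map_one, Module.End.one_apply] at hax₀ hac
    have e1 := smul_left_injective ℂ hx₀' (hax₀.symm.trans (one_smul ℂ x₀).symm)
    have e2 := smul_left_injective ℂ hc0 (hac.symm.trans (one_smul ℂ c).symm)
    rw [e1, one_mul, add_eq_left] at e2
    exact hπ20 e2
  have hind : LinearIndependent ℂ ![c, c₂] := by
    rw [LinearIndependent.pair_iff]
    intro r₁ r₂ hr
    have h := congrArg χ hr
    rw [map_add, map_smul, map_smul, hχc₂, smul_zero, add_zero, map_zero, smul_eq_mul, mul_eq_zero] at h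
    have h0 := h.resolve_right hπ0
    rw [h0, zero_smul, zero_add, smul_eq_zero] at hr
    exact ⟨h0, hr.resolve_right hc20⟩
  have ham : 2 ≤ Module.finrank ℂ (Module.End.eigenspace (R a) (ν * (1 + π₂))) := by
    refine le_trans (le_of_eq ?_) (Submodule.finrank_mono (show Submodule.span ℂ (Set.range ![c, c₂]) ≤ _ from
      Submodule.span_le.2 ?_))
    · rw [finrank_span_eq_card hind, Fintype.card_fin]
    · rintro _ ⟨j, rfl⟩
      refine Module.End.mem_eigenspace_iff.2 ?_
      fin_cases j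
      · exact hac
      · exact hac₂
  obtain ⟨va, η, ha⟩ := exists_homol hM hV hap hane ham
  have hva0 : va ≠ 0 := fun h0 => ha.ne (by rw [h0, map_zero])
  have hdec : ∀ x, x = (π⁻¹ * χ x) • c + (π₂⁻¹ * χ₂ x) • c₂ + (-(1 + π₂) / π₂ * η x) • va := by
    intro x
    have h1 := (haact x).symm.trans (ha.act x)
    rw [mul_smul ν] at h1
    have h2 := smul_right_injective V hν0 h1
    have h3 : π₂ • x = π₂ • ((π⁻¹ * χ x) • c + (π₂⁻¹ * χ₂ x) • c₂ + (-(1 + π₂) / π₂ * η x) • va) := by
      rw [smul_add, smul_add, smul_smul, smul_smul, smul_smul, mul_inv_cancel_left₀ hπ20,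
        show π₂ * (-(1 + π₂) / π₂ * η x) = -((1 + π₂) * η x) by field_simp,
        show π₂ * (π⁻¹ * χ x) = π₂ / π * χ x by ring, neg_smul, ← sub_eq_add_neg, eq_sub_iff_add_eq,
        ← add_left_cancel_iff (a := x)]
      rw [smul_add, add_smul, one_smul, smul_smul] at h2
      rw [add_comm ((π₂ / π * χ x) • c), ← add_assoc x (χ₂ x • c₂), h2]
      abel
    exact smul_right_injective V hπ20 h3
  have hηc₂ : η c₂ = 0 := by
    have h1 := ha.act c₂
    rw [hac₂] at h1
    have h2 := smul_right_injective V (mul_ne_zero hν0 hu) h1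
    rw [left_eq_add, smul_eq_zero] at h2
    exact h2.resolve_right hva0
  have hηc : η c = 0 := by
    have h1 := ha.act c
    rw [hac] at h1
    have h2 := smul_right_injective V (mul_ne_zero hν0 hu) h1
    rw [left_eq_add, smul_eq_zero] at h2
    exact h2.resolve_right hva0
  -- `a` does not commute with `y`
  have hay : a * y ≠ y * a := fun hc => hty (commute_of_diag hM hT2 ha
    (c₂ := c) (χ₂ := χ) (k₁ := π₂⁻¹) (k₂ := π⁻¹) (k₃ := -(1 + π₂) / π₂)
    (fun x => by conv_lhs => rw [hdec x]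
                 abel) hχ₂c hηc
    (g := t) (h := y) htt2 (((Commute.refl t).pow_right i).mul_right htt2).eq hyt2 hc.symm)
  -- one of `s` and `z` does not commute with `a`
  obtain ⟨g, μg, wg, ξ, hg, hξc, hχg, hga⟩ : ∃ (g : G) (μg : ℂ) (wg : V) (ξ : V →ₗ[ℂ] ℂ),
      Homol p R g μg wg ξ ∧ ξ c = 0 ∧ χ wg = 0 ∧ g * a ≠ a * g := by
    by_contra hno
    push Not at hno
    exact hsz (commute_of_diag hM ht ha hdec hχc₂ hηc₂ hst (hno s _ v φ hs hφc hχv) hzt
      (hno z μz w ψ hz hψc hχw))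
  have h₁ := tau_unit hM hMod hp hV hg ha hga
  have h₂ := tau_unit hM hMod hp hV hy ha (Ne.symm hay)
  have m₁ := tau_mem hMod hV hg ha
  have m₂ := tau_mem hMod hV hy ha
  have m₃ := tau_mem hMod hV hg hy
  obtain ⟨hπ2m, hπ2r⟩ := low_root hMod hT2.root'
  have e₁ : ξ wy = -(1 + π₂) / π₂ * η wy * ξ va := by
    conv_lhs => rw [hdec wy]
    rw [map_add, map_add, map_smul, map_smul, map_smul, hξc, hχ₂y]
    simp
  have e₂ : ω wg = -(1 + π₂) / π₂ * η wg * ω va := by
    conv_lhs => rw [hdec wg]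
    rw [map_add, map_add, map_smul, map_smul, map_smul, hωc₂, hχg]
    simp
  have e₃ : π₂ * (π₂ * (ξ wy * ω wg)) = (1 + π₂) * (1 + π₂) * ((ξ va * η wg) * (ω va * η wy)) := by
    rw [e₁, e₂]
    field_simp
  have hum : MemLocalRing M (1 + π₂) := (loc hMod).add_mem (loc hMod).one_mem hπ2m
  have e₄ := congrArg (res hMod) e₃
  rw [res_mul hMod hπ2m ((loc hMod).mul_mem hπ2m m₃), show res hMod π₂ = 0 from hπ2r, zero_mul,
    res_mul hMod ((loc hMod).mul_mem hum hum) ((loc hMod).mul_mem m₁ m₂), res_mul hMod hum hum,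
    res_mul hMod m₁ m₂, res_add hMod (loc hMod).one_mem hπ2m, show res hMod π₂ = 0 from hπ2r, res_one,
    add_zero, one_mul, one_mul] at e₄
  exact mul_ne_zero h₁ h₂ e₄.symm

end CfsgLib.LinearSmall
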