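import Cfsg.Agent.Lib.LinearSmall.Constituent

/-!
# No eigenvalue of large multiplicity in a minimal configuration
-/

namespace CfsgLib.LinearSmall

open Cfsg CfsgLib.CharTheory
open scoped commutatorElement
open CfsgLib.LinearGroups.SmallClosed (PCl mem_sylow_of_pcl conj_pow_one pow_eq_one_of_mem)

set_option linter.unusedVariables false
set_option linter.style.haveILetI false
set_option linter.unusedSectionVars false

universe u v

/-- A group all whose smaller analogues behave. -/
structure Min (p : ℕ) {G : Type u} [Group G] [Finite G] {V : Type v} [AddCommGroup V] [Module ℂ V]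
    [FiniteDimensional ℂ V] (R : Representation ℂ G V) : Prop where
  inj : Function.Injective R
  irr : R.IsIrreducible
  deg : Module.finrank ℂ V + 1 < p
  five : 5 ≤ p
  ih : Small.{u} p (Nat.card G)
  cen : ¬ p ∣ Nat.card (Subgroup.center G)

variable {p : ℕ} [Fact p.Prime] {G : Type u} [Group G] [Finite G] {V : Type v} [AddCommGroup V]
  [Module ℂ V] [FiniteDimensional ℂ V] {R : Representation ℂ G V}

theorem central_eq_one (hM : Min p R) {g : G} (hg : ∃ k, g ^ p ^ k = 1) (hc : g ∈ Subgroup.center G) :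
    g = 1 := by
  obtain ⟨k, hk⟩ := hg
  obtain ⟨j, -, hj⟩ := (Nat.dvd_prime_pow (Fact.out : p.Prime)).1 (orderOf_dvd_of_pow_eq_one hk)
  rcases j with _ | j
  · rw [pow_zero, orderOf_eq_one_iff] at hj; exact hj
  · exfalso
    refine hM.cen ((dvd_pow_self p j.succ_ne_zero).trans ?_)
    rw [← hj]
    exact Subgroup.orderOf_mk g hc ▸ orderOf_dvd_natCard (⟨g, hc⟩ : Subgroup.center G)

theorem mem_center_of_scalar (hM : Min p R) {g : G} {c : ℂ} (h : ∀ v, R g v = c • v) :
    g ∈ Subgroup.center G := by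
  rw [Subgroup.mem_center_iff]
  intro k
  refine hM.inj (LinearMap.ext fun v => ?_)
  rw [map_mul, map_mul, Module.End.mul_apply, Module.End.mul_apply, h, h, map_smul]

theorem abelian_p (hM : Min p R) (Q : Subgroup G) (hQ : IsPGroup p Q) :
    ∀ x ∈ Q, ∀ y ∈ Q, x * y = y * x := by
  have hσi : Function.Injective (conjRep R (Module.finBasis ℂ V).equivFun) := fun a b h =>
    hM.inj ((Module.finBasis ℂ V).equivFun.conj.injective h)
  have hf : CfsgLib.LinearGroups.Faith (Module.finrank ℂ V) G :=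
    ⟨_, isCharacter_character (conjRep R (Module.finBasis ℂ V).equivFun), fun g hg => hσi (by
      rw [rep_apply_eq_one_of_char_eq _ hg, map_one]),
      Module.finrank ℂ V, by rw [Representation.char_one, Module.finrank_fintype_fun_eq_card, Fintype.card_fin],
      le_rfl⟩
  intro x hx y hy
  refine congrArg Subtype.val ((hf.subgroup Q).comm_of_pi (fun r hr hd => ?_) (⟨x, hx⟩ : Q) ⟨y, hy⟩)
  obtain ⟨i, hi⟩ := IsPGroup.iff_card.1 hQ
  rw [hi] at hd
  exact ⟨hr, ((Nat.prime_dvd_prime_iff_eq hr Fact.out).1 (hr.dvd_of_dvd_pow hd)) ▸ hM.deg⟩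

/-- Commuting elements of a closed subgroup. -/
theorem commute_of_pcl (hM : Min p R) {H : Subgroup G} (hH : PCl p H) {x y : G} (hx : x ∈ H) (hy : y ∈ H)
    (hxp : ∃ k, x ^ p ^ k = 1) (hyp : ∃ k, y ^ p ^ k = 1) : x * y = y * x := by
  obtain ⟨T⟩ := (inferInstance : Nonempty (Sylow p H))
  have hm : ∀ z (hz : z ∈ H), (∃ k, z ^ p ^ k = 1) → z ∈ (T : Subgroup H).map H.subtype :=
    fun z hz ⟨k, hk⟩ => ⟨⟨z, hz⟩, mem_sylow_of_pcl hH T ⟨k, Subtype.ext hk⟩, rfl⟩
  exact abelian_p hM _ (T.2.map _) x (hm x hx hxp) y (hm y hy hyp)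

/-- A proper normal subgroup does not contain a Sylow subgroup. -/
theorem normal_top (hM : Min p R) (P : Sylow p G) (hnn : ¬ (P : Subgroup G).Normal)
    (hP : Nat.card P ≠ p) (M : Subgroup G) (hn : M.Normal) (hPM : (P : Subgroup G) ≤ M) : M = ⊤ := by
  classical
  by_contra hne
  have hlt : Nat.card M < Nat.card G :=
    lt_of_le_of_ne (Subgroup.card_le_card_group M) fun e => hne (Subgroup.eq_top_of_card_eq M e)
  set RM : Representation ℂ M V := R.comp M.subtype with hRMdef
  have hRM : Function.Injective RM := hM.inj.comp Subtype.val_injective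
  have hbad : ¬ PCl p M := fun h => hnn ⟨fun x hx g =>
    CfsgLib.LinearGroups.SmallClosed.mem_of_pcl_sub h P hPM (hn.conj_mem x (hPM hx) g)
      (conj_pow_one (pow_eq_one_of_mem P.2 hx) g)⟩
  obtain ⟨V1, V2, hc, hV1, -, -, hbig⟩ := exists_split RM hRM hM.deg hbad
  haveI := hM.irr
  have hinv : ∀ g : G, ∀ v ∈ V1.toSubmodule, R g v ∈ V1.toSubmodule := by
    intro g
    let U : Subrepresentation V1.toRepresentation :=
      ⟨(V1.toSubmodule.map (R g)).comap V1.toSubmodule.subtype, fun m v hv => by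
        obtain ⟨w, hw, hwv⟩ := hv
        have hwv' : R g w = (v : V) := hwv
        refine ⟨R (g⁻¹ * m * g) w, ?_, ?_⟩
        · exact V1.apply_mem_toSubmodule ⟨g⁻¹ * m * g, by simpa using hn.conj_mem m m.2 g⁻¹⟩ hw
        · show _ = R (m : G) (v : V)
          rw [← hwv', ← Module.End.mul_apply, ← Module.End.mul_apply, ← map_mul, ← map_mul]
          congr 2
          group⟩
    haveI := hV1
    rcases eq_bot_or_eq_top U with hU | hU
    · exfalso
      have h0 : V1.toSubmodule ⊓ V1.toSubmodule.map (R g) = ⊥ := by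
        rw [Submodule.eq_bot_iff]
        rintro v ⟨hv1, hv2⟩
        have : (⟨v, hv1⟩ : V1.toSubmodule) ∈ U.toSubmodule := hv2
        rw [hU] at this
        exact congrArg Subtype.val ((Submodule.mem_bot (R := ℂ)).1 this)
      have h1 := Submodule.finrank_sup_add_finrank_inf_eq V1.toSubmodule (V1.toSubmodule.map (R g))
      have hgi : Function.Injective (R g) := fun a b hab => by
        have h := congrArg (R g⁻¹) hab
        rwa [← Module.End.mul_apply, ← Module.End.mul_apply, ← map_mul, inv_mul_cancel, map_one] at h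
      rw [h0, finrank_bot, ← (Submodule.equivMapOfInjective _ hgi V1.toSubmodule).finrank_eq] at h1
      have h2 := Submodule.finrank_le (V1.toSubmodule ⊔ V1.toSubmodule.map (R g))
      have := hM.deg
      omega
    · intro v hv
      have hle : V1.toSubmodule ≤ V1.toSubmodule.map (R g) := fun w hw => by
        have : (⟨w, hw⟩ : V1.toSubmodule) ∈ U.toSubmodule := hU ▸ Submodule.mem_top
        exact this
      have heq : V1.toSubmodule = V1.toSubmodule.map (R g) :=
        Submodule.eq_of_le_of_finrank_le hle (Submodule.finrank_map_le _ _)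
      rw [heq]
      exact Submodule.mem_map_of_mem hv
  have hV1top : V1.toSubmodule = ⊤ := by
    rcases eq_bot_or_eq_top (⟨V1.toSubmodule, fun g v hv => hinv g v hv⟩ : Subrepresentation R) with h | h
    · exfalso
      have h' : V1.toSubmodule = ⊥ := congrArg Subrepresentation.toSubmodule h
      rw [h', finrank_bot] at hbig
      have := hM.five
      omega
    · exact congrArg Subrepresentation.toSubmodule h
  haveI hRMirr : RM.IsIrreducible := by
    have e : V1.toSubmodule ≃ₗ[ℂ] V := (LinearEquiv.ofEq _ _ hV1top).trans Submodule.topEquiv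
    let φ : V1.toRepresentation.Equiv RM :=
      { toIntertwiningMap := ⟨V1.toSubmodule.subtype, fun g => rfl⟩
        invFun := fun v => ⟨v, hV1top ▸ Submodule.mem_top⟩
        left_inv := fun v => rfl
        right_inv := fun v => rfl }
    haveI := hV1
    exact isIrreducible_of_equiv φ
  have hZM : ¬ p ∣ Nat.card (Subgroup.center M) := by
    intro hd
    obtain ⟨z, hz⟩ := exists_prime_orderOf_dvd_card' p hd
    obtain ⟨c, hc'⟩ := exists_scalar_of_mem_center RM z.2
    have h1 : ((z : M) : G) = 1 := central_eq_one hM ⟨1, by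
      rw [pow_one, ← hz, ← Subgroup.orderOf_coe, ← Subgroup.orderOf_coe, pow_orderOf_eq_one]⟩
      (mem_center_of_scalar hM fun v => LinearMap.congr_fun hc' v)
    rw [← Subgroup.orderOf_coe, ← Subgroup.orderOf_coe, h1, orderOf_one] at hz
    exact (Fact.out : p.Prime).ne_one hz.symm
  have hPn : ¬ ((P.subtype hPM : Sylow p M) : Subgroup M).Normal := fun h =>
    hbad (CfsgLib.LinearGroups.SmallClosed.pcl_of_normal _ h)
  set E := (Module.finBasis ℂ V).equivFun
  have h := hM.ih M hlt _ (conjRep RM E) (fun a b hab => hRM (E.conj.injective hab))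
    (isIrreducible_of_equiv (conjRepEquiv RM E)) hM.deg hZM _ hPn
  refine hP (Eq.trans ?_ h)
  exact (Nat.card_congr (Subgroup.subgroupOfEquivOfLe hPM).toEquiv).symm

/-- Some conjugate does not commute. -/
theorem exists_conj_not_comm (hM : Min p R) (P : Sylow p G) (hnn : ¬ (P : Subgroup G).Normal)
    (hP : Nat.card P ≠ p) {q : G} (hq : ∃ k, q ^ p ^ k = 1) (hq1 : q ≠ 1) :
    ∃ g : G, q * (g * q * g⁻¹) ≠ g * q * g⁻¹ * q := by
  by_contra hno
  push Not at hno
  have hpg : IsPGroup p (Subgroup.zpowers q) := by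
    obtain ⟨k, hk⟩ := hq
    rintro ⟨_, n, rfl⟩
    refine ⟨k, Subtype.ext ?_⟩
    show (q ^ n) ^ p ^ k = 1
    rw [← zpow_natCast, ← zpow_mul, mul_comm, zpow_mul, zpow_natCast, hk, one_zpow]
  obtain ⟨S, hS⟩ := hpg.exists_le_sylow
  obtain ⟨a, ha⟩ := MulAction.exists_smul_eq G S P
  set q' := a * q * a⁻¹ with hq'
  have hq'P : q' ∈ (P : Subgroup G) := by
    rw [← ha, Sylow.coe_subgroup_smul]
    exact Subgroup.smul_mem_pointwise_smul q (MulAut.conj a) _ (hS (Subgroup.mem_zpowers q))
  set A := Subgroup.centralizer (Set.range fun g : G => g * q * g⁻¹) with hA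
  have hAn : A.Normal := ⟨fun n hn g => by
    rw [hA, Subgroup.mem_centralizer_iff] at hn ⊢
    rintro _ ⟨h, rfl⟩
    have h1 := congrArg (fun w => g * w * g⁻¹) (hn _ ⟨g⁻¹ * h, rfl⟩)
    dsimp only at h1
    calc h * q * h⁻¹ * (g * n * g⁻¹) = g * ((g⁻¹ * h) * q * (g⁻¹ * h)⁻¹ * n) * g⁻¹ := by group
      _ = g * (n * ((g⁻¹ * h) * q * (g⁻¹ * h)⁻¹)) * g⁻¹ := h1
      _ = _ := by group⟩
  have hall : ∀ g h : G, (g * q * g⁻¹) * (h * q * h⁻¹) = (h * q * h⁻¹) * (g * q * g⁻¹) := by
    intro g h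
    have h1 := congrArg (fun w => g * w * g⁻¹) (hno (g⁻¹ * h))
    calc g * q * g⁻¹ * (h * q * h⁻¹) = g * (q * ((g⁻¹ * h) * q * (g⁻¹ * h)⁻¹)) * g⁻¹ := by group
      _ = g * ((g⁻¹ * h) * q * (g⁻¹ * h)⁻¹ * q) * g⁻¹ := h1
      _ = _ := by group
  -- the normal closure is an abelian `p`-group, hence inside every Sylow subgroup
  set B := Subgroup.closure (Set.range fun g : G => g * q * g⁻¹) with hB
  haveI hBn : B.Normal := ⟨fun b hb g => by
    have h1 : B.map (MulAut.conj g).toMonoidHom ≤ B := by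
      rw [hB, MonoidHom.map_closure, Subgroup.closure_le]
      rintro _ ⟨_, ⟨h, rfl⟩, rfl⟩
      refine Subgroup.subset_closure ⟨g * h, ?_⟩
      show _ = g * (h * q * h⁻¹) * g⁻¹
      group
    exact h1 ⟨b, hb, rfl⟩⟩
  have hBp : IsPGroup p B := by
    rintro ⟨b, hb⟩
    suffices ∃ k, b ^ p ^ k = 1 by
      obtain ⟨k, hk⟩ := this
      exact ⟨k, Subtype.ext hk⟩
    suffices (∃ k, b ^ p ^ k = 1) ∧ b ∈ B from this.1
    induction hb using Subgroup.closure_induction with
    | mem x hx => obtain ⟨g, rfl⟩ := hx; exact ⟨conj_pow_one hq g, Subgroup.subset_closure ⟨g, rfl⟩⟩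
    | one => exact ⟨⟨0, one_pow _⟩, B.one_mem⟩
    | mul x y _ _ hx hy =>
      obtain ⟨⟨i, hi⟩, hxB⟩ := hx
      obtain ⟨⟨j, hj⟩, hyB⟩ := hy
      have hc : Commute x y := by
        have hle : B ≤ A := by
          rw [hB, Subgroup.closure_le]
          rintro _ ⟨g, rfl⟩
          rw [SetLike.mem_coe, hA, Subgroup.mem_centralizer_iff]
          rintro _ ⟨h, rfl⟩
          exact hall h g
        have h1 : A ≤ Subgroup.centralizer (B : Set G) := by
          rw [hA, hB, Subgroup.centralizer_closure]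
        exact (Subgroup.mem_centralizer_iff.1 (h1 (hle hyB)) x hxB)
      refine ⟨⟨i + j, ?_⟩, B.mul_mem hxB hyB⟩
      rw [hc.mul_pow, pow_add, pow_mul, hi, one_pow, mul_comm, pow_mul, hj, one_pow, one_mul]
    | inv x _ hx => exact ⟨by obtain ⟨k, hk⟩ := hx.1; exact ⟨k, by rw [inv_pow, hk, inv_one]⟩, B.inv_mem hx.2⟩
  have hBP : B ≤ P := (P.3 (hBp.to_sup_of_normal_left P.2) le_sup_right).le.trans' le_sup_left
  have hPA : (P : Subgroup G) ≤ A := by
    intro x hx
    rw [hA, Subgroup.mem_centralizer_iff]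
    rintro _ ⟨g, rfl⟩
    exact abelian_p hM _ P.2 _ (hBP (Subgroup.subset_closure ⟨g, rfl⟩)) x hx
  have htop := normal_top hM P hnn hP A hAn hPA
  refine hq1 (central_eq_one hM hq (Subgroup.mem_center_iff.2 fun g => ?_))
  have h : g ∈ A := htop ▸ Subgroup.mem_top g
  rw [hA, Subgroup.mem_centralizer_iff] at h
  have h2 := h q ⟨1, by group⟩
  exact h2.symm

/-- The subgroup generated by an element with an eigenvalue of large multiplicity and a conjugate. -/
theorem large_mult (hM : Min p R) {q z : G} (hq : ∃ k, q ^ p ^ k = 1) (hz : ∃ k, z ^ p ^ k = 1)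
    (hqz : q * z ≠ z * q) {μ : ℂ}
    (hmq : (p - 1) / 2 ≤ Module.finrank ℂ (Module.End.eigenspace (R q) μ))
    (hmz : (p - 1) / 2 ≤ Module.finrank ℂ (Module.End.eigenspace (R z) μ)) :
    Module.finrank ℂ V + 2 = p ∧ Module.finrank ℂ (Module.End.eigenspace (R q) μ) = (p - 1) / 2 ∧
      (∀ ν, ν ≠ μ → Module.finrank ℂ (Module.End.eigenspace (R q) ν) ≤ 1) ∧
      ∃ (A B : Submodule ℂ V) (u : G) (c : ℂ), IsCompl A B ∧ Module.finrank ℂ A = (p - 1) / 2 ∧
        (∀ v ∈ A, R q v ∈ A) ∧ (∀ v ∈ B, R q v = μ • v) ∧ (∀ v ∈ A, R z v ∈ A) ∧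
        (∀ v ∈ B, R z v = μ • v) ∧ (∀ v ∈ A, R u v = c • v) ∧ (∀ v ∈ B, R u v = μ • v) ∧
        (∃ k, u ^ p ^ k = 1) ∧ c ≠ μ ∧ u ≠ 1 := by
  classical
  have hp5 := hM.five
  set Eq := Module.End.eigenspace (R q) μ
  set Ez := Module.End.eigenspace (R z) μ
  set H := Subgroup.closure ({q, z} : Set G) with hH
  have hqH : q ∈ H := Subgroup.subset_closure (Set.mem_insert _ _)
  have hzH : z ∈ H := Subgroup.subset_closure (Set.mem_insert_of_mem _ rfl)
  have hscal : ∀ W : Submodule ℂ V, (∀ v ∈ W, R q v = μ • v) → (∀ v ∈ W, R z v = μ • v) →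
      ∀ h ∈ H, ∃ c : ℂ, ∀ v ∈ W, R h v = c • v := by
    intro W h1 h2 h hh
    rw [hH] at hh
    induction hh using Subgroup.closure_induction'' with
    | one => exact ⟨1, fun v _ => by rw [map_one, Module.End.one_apply, one_smul]⟩
    | mem g hg =>
      rcases hg with rfl | hg
      · exact ⟨μ, h1⟩
      · rw [Set.mem_singleton_iff] at hg; subst hg; exact ⟨μ, h2⟩
    | inv_mem g hg =>
      have h3 : ∀ v ∈ W, R g v = μ • v := by
        rcases hg with rfl | hg
        · exact h1
        · rw [Set.mem_singleton_iff] at hg; subst hg; exact h2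
      refine ⟨μ⁻¹, fun v hv => ?_⟩
      have h4 := congrArg (R g⁻¹) (h3 v hv)
      rw [← Module.End.mul_apply, ← map_mul, inv_mul_cancel, map_one, Module.End.one_apply, map_smul] at h4
      rcases eq_or_ne μ 0 with h0 | h0
      · rw [h0, zero_smul] at h4; rw [h4, map_zero, smul_zero]
      · conv_rhs => rw [h4, inv_smul_smul₀ h0]
    | mul a b _ _ ha hb =>
      obtain ⟨c, hc⟩ := ha
      obtain ⟨c', hc'⟩ := hb
      exact ⟨c' * c, fun v hv => by rw [map_mul, Module.End.mul_apply, hc' v hv, map_smul, hc v hv, smul_smul]⟩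
  have hdeg := hM.deg
  have hW : Eq ⊓ Ez ≠ ⊥ := by
    intro h0
    have h1 := Submodule.finrank_sup_add_finrank_inf_eq Eq Ez
    rw [h0, finrank_bot] at h1
    have h2 := Submodule.finrank_le (Eq ⊔ Ez)
    have := (Fact.out : p.Prime).odd_of_ne_two (by omega)
    obtain ⟨r, hr⟩ := this
    omega
  have hWs := hscal (Eq ⊓ Ez) (fun v hv => Module.End.mem_eigenspace_iff.1 hv.1)
    (fun v hv => Module.End.mem_eigenspace_iff.1 hv.2)
  have hHne : H ≠ ⊤ := by
    intro htop
    haveI := hM.irr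
    rcases eq_bot_or_eq_top (⟨Eq ⊓ Ez, fun g v hv => by
      obtain ⟨c, hc⟩ := hWs g (htop ▸ Subgroup.mem_top g)
      rw [hc v hv]; exact (Eq ⊓ Ez).smul_mem c hv⟩ : Subrepresentation R) with h | h
    · exact hW (congrArg Subrepresentation.toSubmodule h)
    · have h' : Eq ⊓ Ez = ⊤ := congrArg Subrepresentation.toSubmodule h
      have hq1 : q = 1 := central_eq_one hM hq (mem_center_of_scalar hM (c := μ) fun v =>
        Module.End.mem_eigenspace_iff.1 ((h' ▸ Submodule.mem_top : v ∈ Eq ⊓ Ez)).1)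
      exact hqz (by rw [hq1, one_mul, mul_one])
  have hlt : Nat.card H < Nat.card G :=
    lt_of_le_of_ne (Subgroup.card_le_card_group H) fun e => hHne (Subgroup.eq_top_of_card_eq H e)
  set RH : Representation ℂ H V := R.comp H.subtype with hRH
  have hRHi : Function.Injective RH := hM.inj.comp Subtype.val_injective
  have hbad : ¬ PCl p H := fun h => hqz (commute_of_pcl hM h hqH hzH hq hz)
  obtain ⟨V1, V2, hc, hV1, hV1bad, -, hbig⟩ := exists_split RH hRHi hdeg hbad
  have hle1 : Module.finrank ℂ V1.toSubmodule + 1 < p := by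
    have := Submodule.finrank_le V1.toSubmodule; omega
  obtain ⟨hb1, hb2, hb3, -⟩ := constituent_bounds hM.ih hlt hp5 RH V1 hV1bad hV1 hle1
  -- an element scalar on the constituent together with the other generator
  have hnsc : ∀ a b : H, H = Subgroup.closure {(a : G), (b : G)} → ¬ ScalarOn RH V1 a := by
    rintro a b hgen ⟨c, hca⟩
    refine hV1bad fun x y hx hy => ?_
    obtain ⟨I, _, _, π, σ, -, hπ, hσ, hσv, -, hcl⟩ := exists_image (p := p) RH V1
    refine hcl (fun x' y' ⟨i, hi⟩ ⟨j, hj⟩ => ?_) x y hx hy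
    have hcomm : ∀ h : H, Commute (π a) (π h) := fun h => hσ (LinearMap.ext fun v => Subtype.ext (by
      rw [map_mul, map_mul, Module.End.mul_apply, Module.End.mul_apply, hσv, hσv, hσv, hσv,
        hca _ v.2, map_smul, hca _ (V1.apply_mem_toSubmodule h v.2)]))
    have hgenH : (⊤ : Subgroup H) = Subgroup.closure {a, b} := by
      apply Subgroup.map_injective H.subtype_injective
      rw [MonoidHom.map_closure, ← MonoidHom.range_eq_map, Subgroup.range_subtype, Set.image_pair]
      exact hgen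
    have hb' : ∀ h : H, Commute (π b) (π h) := by
      intro h
      have hle : (⊤ : Subgroup H) ≤ (Subgroup.centralizer {π b}).comap π := by
        rw [hgenH, Subgroup.closure_le]
        rintro _ (rfl | rfl) <;> rw [SetLike.mem_coe, Subgroup.mem_comap, Subgroup.mem_centralizer_singleton_iff]
        exact (hcomm b).eq
      exact (Subgroup.mem_centralizer_singleton_iff.1 (hle (Subgroup.mem_top h))).symm
    have hall : ∀ h h' : H, Commute (π h) (π h') := by
      intro h h'
      have hle : (⊤ : Subgroup H) ≤ (Subgroup.centralizer {π h'}).comap π := by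
        rw [hgenH, Subgroup.closure_le]
        rintro _ (rfl | rfl) <;> rw [SetLike.mem_coe, Subgroup.mem_comap, Subgroup.mem_centralizer_singleton_iff]
        · exact (hcomm h').eq
        · exact (hb' h').eq
      exact Subgroup.mem_centralizer_singleton_iff.1 (hle (Subgroup.mem_top h))
    obtain ⟨a', rfl⟩ := hπ x'
    obtain ⟨b', rfl⟩ := hπ y'
    exact ⟨i + j, by rw [(hall a' b').mul_pow, pow_add, pow_mul, hi, one_pow, mul_comm, pow_mul, hj,
      one_pow, one_mul]⟩
  let q' : H := ⟨q, hqH⟩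
  let z' : H := ⟨z, hzH⟩
  have hq' : ∃ k, q' ^ p ^ k = 1 := let ⟨k, hk⟩ := hq; ⟨k, Subtype.ext hk⟩
  have hz' : ∃ k, z' ^ p ^ k = 1 := let ⟨k, hk⟩ := hz; ⟨k, Subtype.ext hk⟩
  have hqs := hnsc q' z' hH
  have hzs := hnsc z' q' (hH.trans (congrArg Subgroup.closure (Set.pair_comm q z)))
  -- dimensions
  have hdim : ∀ (y : H) (ν : ℂ), Module.finrank ℂ (Module.End.eigenspace (RH y) ν) ≤
      Module.finrank ℂ ↥(Module.End.eigenspace (RH y) ν ⊓ V1.toSubmodule) +
        Module.finrank ℂ ↥(Module.End.eigenspace (RH y) ν ⊓ V2.toSubmodule) := by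
    intro y ν
    refine (Submodule.finrank_mono ?_).trans (Submodule.finrank_add_le_finrank_add_finrank _ _)
    intro v hv
    obtain ⟨a, ha, b, hb, rfl⟩ := Submodule.mem_sup.1 (hc.sup_eq_top ▸ Submodule.mem_top :
      v ∈ V1.toSubmodule ⊔ V2.toSubmodule)
    rw [Module.End.mem_eigenspace_iff, map_add, smul_add] at hv
    have h1 : RH y a - ν • a = 0 := by
      have h2 : RH y a - ν • a ∈ V1.toSubmodule :=
        sub_mem (V1.apply_mem_toSubmodule y ha) (V1.toSubmodule.smul_mem ν ha)
      have h3 : RH y a - ν • a ∈ V2.toSubmodule := by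
        rw [show RH y a - ν • a = ν • b - RH y b by rw [sub_eq_sub_iff_add_eq_add, hv]; abel]
        exact sub_mem (V2.toSubmodule.smul_mem ν hb) (V2.apply_mem_toSubmodule y hb)
      exact (Submodule.mem_bot ℂ).1 (hc.inf_eq_bot ▸ Submodule.mem_inf.2 ⟨h2, h3⟩)
    refine Submodule.mem_sup.2 ⟨a, ⟨Module.End.mem_eigenspace_iff.2 (sub_eq_zero.1 h1), ha⟩, b,
      ⟨Module.End.mem_eigenspace_iff.2 ?_, hb⟩, rfl⟩
    rw [sub_eq_zero.1 h1] at hv
    exact add_left_cancel hv
  have hsum := Submodule.finrank_add_eq_of_isCompl hc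
  have hfull : ∀ (y : H), (∃ k, y ^ p ^ k = 1) → ¬ ScalarOn RH V1 y →
      (p - 1) / 2 ≤ Module.finrank ℂ (Module.End.eigenspace (RH y) μ) →
      Module.finrank ℂ V + 2 = p ∧ Module.finrank ℂ V1.toSubmodule = (p - 1) / 2 ∧
        Module.finrank ℂ (Module.End.eigenspace (RH y) μ) = (p - 1) / 2 ∧
        (∀ v ∈ V2.toSubmodule, RH y v = μ • v) ∧
        1 ≤ Module.finrank ℂ ↥(Module.End.eigenspace (RH y) μ ⊓ V1.toSubmodule) := by
    intro y hy hys hm
    have h1 := hdim y μ
    have h2 := hb1 y hy hys μ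
    have h3 := Submodule.finrank_mono
      (inf_le_right : Module.End.eigenspace (RH y) μ ⊓ V2.toSubmodule ≤ V2.toSubmodule)
    obtain ⟨r, hr⟩ := (Fact.out : p.Prime).odd_of_ne_two (by omega)
    refine ⟨by omega, by omega, by omega, fun v hv => ?_, by omega⟩
    have h4 : Module.End.eigenspace (RH y) μ ⊓ V2.toSubmodule = V2.toSubmodule :=
      Submodule.eq_of_le_of_finrank_le inf_le_right (by omega)
    rw [← h4] at hv
    exact Module.End.mem_eigenspace_iff.1 hv.1
  obtain ⟨hd2, hf, hmq', hq2, hone⟩ := hfull q' hq' hqs hmq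
  obtain ⟨-, -, -, hz2, -⟩ := hfull z' hz' hzs hmz
  have hHs := hscal V2.toSubmodule hq2 hz2
  refine ⟨hd2, hmq', fun ν hν => ?_, ?_⟩
  · refine (hdim q' ν).trans ?_
    have h0 : Module.End.eigenspace (RH q') ν ⊓ V2.toSubmodule = ⊥ := by
      rw [Submodule.eq_bot_iff]
      rintro v ⟨h1, h2⟩
      have h3 := hq2 v h2
      rw [Module.End.mem_eigenspace_iff.1 h1, ← sub_eq_zero, ← sub_smul, smul_eq_zero, sub_eq_zero] at h3
      exact h3.resolve_left hν
    rw [h0, finrank_bot, add_zero]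
    exact hb1 q' hq' hqs ν
  obtain ⟨x, hx, hxp, c, hxq⟩ := hb2 q' hq' hqs
  have hx2 : ∀ v ∈ V2.toSubmodule, RH x v = v := by
    let N : Subgroup H :=
      { carrier := {h | ∀ v ∈ V2.toSubmodule, RH h v = v}
        one_mem' := fun v _ => by rw [map_one, Module.End.one_apply]
        mul_mem' := fun {a b} ha hb v hv => by rw [map_mul, Module.End.mul_apply, hb v hv, ha v hv]
        inv_mem' := fun {a} ha v hv => by
          conv_lhs => rw [← ha v hv]
          rw [← Module.End.mul_apply, ← map_mul, inv_mul_cancel, map_one, Module.End.one_apply] }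
    suffices h : commutator H ≤ N from h hx
    rw [commutator_def, Subgroup.commutator_le]
    intro a _ b _ v hv
    obtain ⟨ca, hca⟩ := hHs a a.2
    obtain ⟨cb, hcb⟩ := hHs b b.2
    have hcm : ∀ w ∈ V2.toSubmodule, RH a (RH b w) = RH b (RH a w) := fun w hw => by
      show R a (R b w) = R b (R a w)
      rw [hcb w hw, map_smul, hca w hw, map_smul, hcb w hw, smul_comm]
    have h1 : RH ⁅a, b⁆ v = RH a (RH b (RH a⁻¹ (RH b⁻¹ v))) := by
      simp only [commutatorElement_def, map_mul, Module.End.mul_apply]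
    rw [h1, hcm _ (V2.apply_mem_toSubmodule _ (V2.apply_mem_toSubmodule _ hv)), ← Module.End.mul_apply (RH a),
      ← map_mul, mul_inv_cancel, map_one, Module.End.one_apply, ← Module.End.mul_apply, ← map_mul,
      mul_inv_cancel, map_one, Module.End.one_apply]
  have hcom : Commute q' x := by
    refine hRHi (LinearMap.ext fun v => ?_)
    obtain ⟨a, ha, b, hb, rfl⟩ := Submodule.mem_sup.1 (hc.sup_eq_top ▸ Submodule.mem_top :
      v ∈ V1.toSubmodule ⊔ V2.toSubmodule)
    simp only [map_mul, Module.End.mul_apply, map_add]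
    rw [hx2 b hb, hxq _ (V1.apply_mem_toSubmodule x ha), hxq a ha, hq2 b hb, map_smul, map_smul, hx2 b hb]
  set u : H := q' * x⁻¹ with hu
  have huA : ∀ v ∈ V1.toSubmodule, RH u v = c • v := fun v hv => by
    rw [hu, map_mul, Module.End.mul_apply, hxq _ (V1.apply_mem_toSubmodule _ hv), ← Module.End.mul_apply,
      ← map_mul, mul_inv_cancel, map_one, Module.End.one_apply]
  have huB : ∀ v ∈ V2.toSubmodule, RH u v = μ • v := fun v hv => by
    rw [hu, map_mul, Module.End.mul_apply]
    conv_lhs => rw [← hx2 v hv]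
    rw [← Module.End.mul_apply (RH x⁻¹), ← map_mul, inv_mul_cancel, map_one, Module.End.one_apply, hq2 v hv]
  have hup : ∃ k, u ^ p ^ k = 1 := by
    obtain ⟨i, hi⟩ := hq'
    obtain ⟨j, hj⟩ := hxp
    refine ⟨i + j, ?_⟩
    rw [hu, hcom.inv_right.mul_pow, pow_add, pow_mul, hi, one_pow, mul_comm, pow_mul, inv_pow, hj, inv_one,
      one_pow, one_mul]
  have hne : c ≠ μ := by
    intro hcμ
    have hu1 : (u : G) = 1 := by
      obtain ⟨k, hk⟩ := hup
      refine central_eq_one hM ⟨k, congrArg Subtype.val hk⟩ (mem_center_of_scalar hM (c := μ) fun v => ?_)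
      obtain ⟨a, ha, b, hb, rfl⟩ := Submodule.mem_sup.1 (hc.sup_eq_top ▸ Submodule.mem_top :
        v ∈ V1.toSubmodule ⊔ V2.toSubmodule)
      show RH u (a + b) = _
      rw [map_add, smul_add, huA a ha, huB b hb, hcμ]
    have hu1' : u = 1 := Subtype.ext hu1
    have hqx : q' = x := by rwa [hu, mul_inv_eq_one] at hu1'
    have hμ1 : μ = 1 := by
      obtain ⟨v, hv, hv0⟩ : ∃ v ∈ V2.toSubmodule, v ≠ 0 :=
        Submodule.exists_mem_ne_zero_of_ne_bot fun h => by
          rw [h, finrank_bot] at hsum; omega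
      have h := huB v hv
      rw [hu1', map_one, Module.End.one_apply] at h
      exact smul_left_injective ℂ hv0 (h.symm.trans (one_smul ℂ v).symm)
    have h := hb3 x hx hxp (hqx ▸ hqs)
    rw [← hqx, ← hμ1] at h
    omega
  refine ⟨V1.toSubmodule, V2.toSubmodule, (u : G), c, hc, hf, fun v hv => V1.apply_mem_toSubmodule q' hv,
    hq2, fun v hv => V1.apply_mem_toSubmodule z' hv, hz2, huA, huB, ?_, hne, ?_⟩
  · obtain ⟨k, hk⟩ := hup; exact ⟨k, congrArg Subtype.val hk⟩
  · intro h1
    have hu1' : u = 1 := Subtype.ext h1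
    refine hne ?_
    obtain ⟨v, hv, hv0⟩ : ∃ v ∈ V1.toSubmodule, v ≠ 0 :=
      Submodule.exists_mem_ne_zero_of_ne_bot fun h => by
        rw [h, finrank_bot] at hf; omega
    obtain ⟨w, hw, hw0⟩ : ∃ v ∈ V2.toSubmodule, v ≠ 0 :=
      Submodule.exists_mem_ne_zero_of_ne_bot fun h => by
        rw [h, finrank_bot] at hsum; omega
    have hA := huA v hv
    have hB := huB w hw
    rw [hu1', map_one, Module.End.one_apply] at hA hB
    rw [← smul_left_injective ℂ hv0 ((one_smul ℂ v).trans hA),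
      ← smul_left_injective ℂ hw0 ((one_smul ℂ w).trans hB)]

end CfsgLib.LinearSmall
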