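import Cfsg.Agent.Lib.LinearSmall.Five
import Cfsg.Agent.Lib.CharTheory.FTBound
import Cfsg.Agent.Lib.SmallRep.Complex

/-!
# The Sylow subgroup modulo the centre has order at most `p`
-/

namespace CfsgLib.LinearSmall

open Cfsg CfsgLib.CharTheory
open CfsgLib.LinearGroups.SmallClosed (PCl mem_sylow_of_pcl mem_of_pcl_sub conj_pow_one pow_eq_one_of_mem)

set_option linter.unusedVariables false
set_option linter.style.haveILetI false
set_option linter.unusedSectionVars false

universe u v

variable {p : ℕ} [Fact p.Prime] {G : Type u} [Group G] [Finite G] {V : Type v} [AddCommGroup V]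
  [Module ℂ V] [FiniteDimensional ℂ V] {R : Representation ℂ G V}

/-- No eigenvalue has multiplicity `(p - 1) / 2`. -/
theorem no_large_mult (hM : Min p R) (P : Sylow p G) (hnn : ¬ (P : Subgroup G).Normal) (hP : Nat.card P ≠ p)
    {q : G} (hq : ∃ k, q ^ p ^ k = 1) (hq1 : q ≠ 1) (μ : ℂ) :
    Module.finrank ℂ (Module.End.eigenspace (R q) μ) < (p - 1) / 2 := by
  by_contra hlt
  push Not at hlt
  have hconj : ∀ (y : G) (ν : ℂ) (g : G), Module.finrank ℂ (Module.End.eigenspace (R y) ν) ≤
      Module.finrank ℂ (Module.End.eigenspace (R (g * y * g⁻¹)) ν) := by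
    intro y ν g
    have hinj : Function.Injective (R g) := fun a b hab => by
      have h := congrArg (R g⁻¹) hab
      rwa [← Module.End.mul_apply, ← Module.End.mul_apply, ← map_mul, inv_mul_cancel, map_one] at h
    rw [(Submodule.equivMapOfInjective _ hinj (Module.End.eigenspace (R y) ν)).finrank_eq]
    refine Submodule.finrank_mono ?_
    rintro _ ⟨w, hw, rfl⟩
    rw [Module.End.mem_eigenspace_iff, map_mul, map_mul, Module.End.mul_apply, Module.End.mul_apply,
      ← Module.End.mul_apply (R g⁻¹) (R g), ← map_mul, inv_mul_cancel, map_one, Module.End.one_apply,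
      Module.End.mem_eigenspace_iff.1 hw, map_smul]
  obtain ⟨g, hg⟩ := exists_conj_not_comm hM P hnn hP hq hq1
  obtain ⟨hd, hmq, -, A, B, u, c, hAB, hA, -, -, -, -, huA, huB, hup, hne, hu1⟩ :=
    large_mult hM hq (conj_pow_one hq g) hg hlt (hlt.trans (hconj q μ g))
  have huc : (p - 1) / 2 ≤ Module.finrank ℂ (Module.End.eigenspace (R u) c) :=
    hA.symm.le.trans (Submodule.finrank_mono fun v hv => Module.End.mem_eigenspace_iff.2 (huA v hv))
  obtain ⟨g', hg'⟩ := exists_conj_not_comm hM P hnn hP hup hu1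
  obtain ⟨-, -, hrest, -⟩ := large_mult hM hup (conj_pow_one hup g') hg' huc (huc.trans (hconj u c g'))
  have hB : Module.finrank ℂ B ≤ 1 :=
    (Submodule.finrank_mono fun v hv => Module.End.mem_eigenspace_iff.2 (huB v hv)).trans (hrest μ hne.symm)
  have hsum := Submodule.finrank_add_eq_of_isCompl hAB
  have hp5 := hM.five
  obtain ⟨r, hr⟩ := (Fact.out : p.Prime).odd_of_ne_two (by omega)
  have hp : p = 5 := by omega
  exact five_false hM hp (by omega) P hnn hP hq hq1 (μ := μ) (by omega)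

theorem scalarOn_of_central {H : Type*} [Group H] [Finite H] (RH : Representation ℂ H V) (W : Subrepresentation RH)
    (hirr : W.toRepresentation.IsIrreducible) {y : H} (hy : y ∈ Subgroup.center H) : ScalarOn RH W y := by
  haveI := hirr
  obtain ⟨c, hc⟩ := exists_scalar_of_mem_center W.toRepresentation hy
  exact ⟨c, fun v hv => congrArg Subtype.val (LinearMap.congr_fun hc ⟨v, hv⟩)⟩

theorem scalar_dim {H : Subgroup G} (W : Subrepresentation (R.comp H.subtype : Representation ℂ H V)) {y : H}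
    {c : ℂ} (hc : ∀ v ∈ W.toSubmodule, R (y : G) v = c • v) :
    Module.finrank ℂ W.toSubmodule ≤ Module.finrank ℂ (Module.End.eigenspace (R (y : G)) c) :=
  Submodule.finrank_mono fun v hv => Module.End.mem_eigenspace_iff.2 (hc v hv)

/-- Centralisers of nontrivial `p`-elements are closed. -/
theorem pcl_centralizer (hM : Min p R) (P : Sylow p G) (hnn : ¬ (P : Subgroup G).Normal) (hP : Nat.card P ≠ p)
    {y : G} (hy : ∃ k, y ^ p ^ k = 1) (hy1 : y ≠ 1) : PCl p (Subgroup.centralizer ({y} : Set G)) := by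
  by_contra hbad
  set H := Subgroup.centralizer ({y} : Set G)
  obtain ⟨V1, V2, -, hV1, -, -, hbig⟩ := exists_split (R.comp H.subtype : Representation ℂ H V)
    (hM.inj.comp Subtype.val_injective) hM.deg hbad
  have hyH : y ∈ H := Subgroup.mem_centralizer_singleton_iff.2 rfl
  obtain ⟨c, hc⟩ := scalarOn_of_central _ V1 hV1 (y := (⟨y, hyH⟩ : H)) (Subgroup.mem_center_iff.2 fun h =>
    Subtype.ext (Subgroup.mem_centralizer_singleton_iff.1 h.2))
  have h1 := scalar_dim (R := R) V1 (y := ⟨y, hyH⟩) (c := c) hc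
  have h2 := no_large_mult hM P hnn hP hy hy1 c
  change _ ≤ Module.finrank ℂ (Module.End.eigenspace (R y) c) at h1
  omega

/-- A noncentral element commuting with a nontrivial element of a Sylow subgroup has a closed centraliser. -/
theorem pcl_centralizer_of_commute (hM : Min p R) (P : Sylow p G) (hnn : ¬ (P : Subgroup G).Normal)
    (hP : Nat.card P ≠ p) {g x : G} (hg : g ∉ Subgroup.center G) (Q : Sylow p G) (hx : x ∈ (Q : Subgroup G))
    (hx1 : x ≠ 1) (hgx : x * g = g * x) : PCl p (Subgroup.centralizer ({g} : Set G)) := by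
  classical
  by_contra hbad
  haveI := Fintype.ofFinite G
  set H := Subgroup.centralizer ({g} : Set G) with hHdef
  set RH : Representation ℂ H V := R.comp H.subtype with hRH
  have hRHi : Function.Injective RH := hM.inj.comp Subtype.val_injective
  obtain ⟨V1, V2, hc, hV1, hV1bad, -, hbig⟩ := exists_split RH hRHi hM.deg hbad
  have hp5 := hM.five
  have hdeg := hM.deg
  have hsum := Submodule.finrank_add_eq_of_isCompl hc
  have hle1 : Module.finrank ℂ V1.toSubmodule + 1 < p := by omega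
  have hlt : Nat.card H < Nat.card G := lt_of_le_of_ne (Subgroup.card_le_card_group H) fun e => hg (by
    rw [Subgroup.mem_center_iff]
    intro k
    exact Subgroup.mem_centralizer_singleton_iff.1 ((Subgroup.eq_top_of_card_eq H e).ge (Subgroup.mem_top k)))
  obtain ⟨-, hb2, hb3, hb4⟩ := constituent_bounds hM.ih hlt hp5 RH V1 hV1bad hV1 hle1
  have hns : ∀ y : H, (∃ k, y ^ p ^ k = 1) → y ≠ 1 → ¬ ScalarOn RH V1 y := by
    rintro y ⟨k, hk⟩ hy1 ⟨c, hc'⟩
    have h1 := scalar_dim (R := R) V1 (y := y) (c := c) hc'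
    have h2 := no_large_mult hM P hnn hP ⟨k, congrArg Subtype.val hk⟩ (fun h => hy1 (Subtype.ext h)) c
    omega
  have hTle : ∀ T : Subgroup H, IsPGroup p T → Nat.card T ≤ p := fun T hT =>
    hb4 T hT fun y hy hy1 => hns y (pow_eq_one_of_mem hT hy) hy1
  obtain ⟨kx, hkx⟩ := pow_eq_one_of_mem Q.2 hx
  have hxH : x ∈ H := Subgroup.mem_centralizer_singleton_iff.2 hgx
  let x' : H := ⟨x, hxH⟩
  have hx'p : ∃ k, x' ^ p ^ k = 1 := ⟨kx, Subtype.ext hkx⟩
  have hx'1 : x' ≠ 1 := fun h => hx1 (congrArg Subtype.val h)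
  -- Sylow subgroups of the centraliser have order `p`
  have hsq : ¬ p ^ 2 ∣ Nat.card H := fun hd => by
    obtain ⟨T⟩ := (inferInstance : Nonempty (Sylow p H))
    have h1 := Nat.le_of_dvd Nat.card_pos (T.pow_dvd_card_of_pow_dvd_card hd)
    have h2 := hTle T T.2
    have h3 : p < p ^ 2 := lt_self_pow₀ (Fact.out : p.Prime).one_lt one_lt_two
    omega
  have hordp : ∀ y : H, (∃ k, y ^ p ^ k = 1) → y ^ p = 1 := by
    intro y hy
    by_contra hne
    obtain ⟨k, hk⟩ := hy
    obtain ⟨j, -, hj⟩ := (Nat.dvd_prime_pow (Fact.out : p.Prime)).1 (orderOf_dvd_of_pow_eq_one hk)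
    refine hsq ((Dvd.dvd.trans ?_ (orderOf_dvd_natCard y)))
    rw [hj]
    refine pow_dvd_pow p ?_
    by_contra hj2
    refine hne (orderOf_dvd_iff_pow_eq_one.1 ?_)
    rw [hj]
    exact (pow_dvd_pow p (show j ≤ 1 by omega)).trans (pow_one p).dvd
  -- everything of `p`-power order is trivial on the small part
  have hfix : ∀ y : H, (∃ k, y ^ p ^ k = 1) → ∀ v ∈ V2.toSubmodule, RH y v = v := by
    intro y hy
    by_contra hno
    have hy1 : y ≠ 1 := fun h => hno fun v _ => by rw [h, map_one, Module.End.one_apply]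
    obtain ⟨I, _, _, π, σ, -, hπ, hσ, hσv, -, -⟩ := exists_image (p := p) RH V2
    have hIcl : PCl p I := pcl_half σ hσ (by omega)
    have hπy : π y ≠ 1 := fun h => hno fun v hv => by
      rw [← hσv y ⟨v, hv⟩, h, map_one]; rfl
    have hK : ¬ p ∣ Nat.card π.ker := by
      intro hd
      obtain ⟨w, hw⟩ := exists_prime_orderOf_dvd_card' p hd
      have hwp : (w : H) ^ p = 1 := by rw [← hw, ← Subgroup.orderOf_coe, pow_orderOf_eq_one]
      have hcard : ∀ z : H, z ^ p = 1 → z ≠ 1 → orderOf z = p := fun z hz hz1 => orderOf_eq_prime hz hz1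
      have hw1 : (w : H) ≠ 1 := fun h => (Fact.out : p.Prime).ne_one (by
        rw [← hw, ← Subgroup.orderOf_coe, h, orderOf_one])
      obtain ⟨S, hS⟩ := (IsPGroup.of_card (n := 1) (by
        rw [Nat.card_zpowers, hcard _ hwp hw1, pow_one]) : IsPGroup p (Subgroup.zpowers (w : H))).exists_le_sylow
      obtain ⟨T, hT⟩ := (IsPGroup.of_card (n := 1) (by
        rw [Nat.card_zpowers, hcard _ (hordp y hy) hy1, pow_one]) : IsPGroup p (Subgroup.zpowers y)).exists_le_sylow
      obtain ⟨a, ha⟩ := MulAction.exists_smul_eq H S T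
      have hSw : (S : Subgroup H) = Subgroup.zpowers (w : H) := by
        refine (Subgroup.eq_of_le_of_card_ge hS ?_).symm
        rw [Nat.card_zpowers, hcard _ hwp hw1]; exact hTle S S.2
      have hy' : y ∈ ((a • S : Sylow p H) : Subgroup H) := ha ▸ hT (Subgroup.mem_zpowers y)
      rw [Sylow.coe_subgroup_smul, hSw] at hy'
      obtain ⟨_, ⟨i, rfl⟩, rfl⟩ := hy'
      apply hπy
      show π (a * (w : H) ^ i * a⁻¹) = 1
      rw [map_mul, map_mul, map_zpow, MonoidHom.mem_ker.1 w.2, one_zpow, mul_one, ← map_mul, mul_inv_cancel,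
        map_one]
    have hcomm := CfsgLib.SmallRep.commute_of_small (R := conjRep RH (Module.finBasis ℂ V).equivFun)
      (p := p) (fun a b h => hRHi ((Module.finBasis ℂ V).equivFun.conj.injective h)) (hordp y hy) hdeg _ π.ker
      rfl hK (fun k hk => (inferInstance : π.ker.Normal).conj_mem k hk y)
    obtain ⟨S⟩ := (inferInstance : Nonempty (Sylow p I))
    have hyS : π y ∈ (S : Subgroup I) := mem_sylow_of_pcl hIcl S (let ⟨k, hk⟩ := hy;
      ⟨k, by rw [← map_pow, hk, map_one]⟩)
    have hScard : Nat.card (S : Subgroup I) ≤ p := by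
      obtain ⟨i, hi⟩ := IsPGroup.iff_card.1 S.2
      rw [hi]
      rcases Nat.lt_or_ge i 2 with h | h
      · exact (Nat.pow_le_pow_right (Fact.out : p.Prime).pos (show i ≤ 1 by omega)).trans (pow_one p).le
      · exact absurd ((pow_dvd_pow p h).trans (hi ▸ (Subgroup.card_subgroup_dvd_card _).trans
          (Subgroup.card_dvd_of_surjective π hπ))) hsq
    have hpy : π y ^ p = 1 := by rw [← map_pow, hordp y hy, map_one]
    have hSeq : Subgroup.zpowers (π y) = S := Subgroup.eq_of_le_of_card_ge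
      (Subgroup.zpowers_le.2 hyS) (by rw [Nat.card_zpowers, orderOf_eq_prime hpy hπy]; exact hScard)
    let T : Sylow p H := IsPGroup.toSylow ((IsPGroup.of_card (n := 1) (by
        rw [Nat.card_zpowers, orderOf_eq_prime (hordp y hy) hy1, pow_one])) :
        IsPGroup p (Subgroup.zpowers y)) (fun hd => by
      have h1 := Subgroup.card_mul_index (Subgroup.zpowers y)
      obtain ⟨q, hq⟩ := hd
      refine hsq ⟨q, ?_⟩
      rw [← h1, hq, Nat.card_zpowers, orderOf_eq_prime (hordp y hy) hy1]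
      ring)
    refine hbad (CfsgLib.LinearGroups.SmallClosed.pcl_of_normal T ?_)
    refine ⟨fun z hz a => ?_⟩
    have hpow : ∀ z ∈ Subgroup.zpowers y, z ^ p = 1 := by
      rintro _ ⟨n, rfl⟩
      show (y ^ n) ^ p = 1
      rw [← zpow_natCast, ← zpow_mul, mul_comm, zpow_mul, zpow_natCast, hordp y hy, one_zpow]
    have hzp := hpow z hz
    have h1 : π (a * z * a⁻¹) ∈ (S : Subgroup I) := mem_sylow_of_pcl hIcl S
      ⟨1, by rw [← map_pow, pow_one, conj_pow, hzp, mul_one, mul_inv_cancel, map_one]⟩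
    rw [← hSeq] at h1
    obtain ⟨i, hi⟩ := Subgroup.mem_zpowers_iff.1 h1
    have hk : (y ^ i)⁻¹ * (a * z * a⁻¹) ∈ π.ker := by
      rw [MonoidHom.mem_ker, map_mul, map_inv, map_zpow, hi, inv_mul_cancel]
    set k := (y ^ i)⁻¹ * (a * z * a⁻¹) with hkdef
    have heq : a * z * a⁻¹ = y ^ i * k := by rw [hkdef, mul_inv_cancel_left]
    have hky : Commute (y ^ i) k := (show Commute y k from hcomm k hk).zpow_left i
    have hkp : k ^ p = 1 := by
      have h2 : (a * z * a⁻¹) ^ p = 1 := by rw [conj_pow, hzp, mul_one, mul_inv_cancel]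
      rwa [heq, hky.mul_pow, hpow _ (Subgroup.zpow_mem_zpowers y i), one_mul] at h2
    have hk1 : k = 1 := by
      rw [← orderOf_eq_one_iff]
      rcases (Nat.dvd_prime (Fact.out : p.Prime)).1 (orderOf_dvd_of_pow_eq_one hkp) with h | h
      · exact h
      · exact absurd (h ▸ Subgroup.orderOf_dvd_natCard π.ker hk) hK
    rw [heq, hk1, mul_one]
    exact Subgroup.zpow_mem_zpowers y i
  -- `x` is in the derived subgroup
  obtain ⟨x₀, hx₀, hx₀p, c, hxc⟩ := hb2 x' hx'p (hns x' hx'p hx'1)
  have hx₀1 : x₀ ≠ 1 := fun h => hns x' hx'p hx'1 ⟨c, fun v hv => by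
    rw [hxc v hv, h, map_one, Module.End.one_apply]⟩
  have hxcomm : x' ∈ commutator H := by
    obtain ⟨S, hS⟩ := (IsPGroup.of_card (n := 1) (by
      rw [Nat.card_zpowers, orderOf_eq_prime (hordp x₀ hx₀p) hx₀1, pow_one]) :
      IsPGroup p (Subgroup.zpowers x₀)).exists_le_sylow
    obtain ⟨T, hT⟩ := (IsPGroup.of_card (n := 1) (by
      rw [Nat.card_zpowers, orderOf_eq_prime (hordp x' hx'p) hx'1, pow_one]) :
      IsPGroup p (Subgroup.zpowers x')).exists_le_sylow
    obtain ⟨a, ha⟩ := MulAction.exists_smul_eq H S T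
    have hSeq : (S : Subgroup H) = Subgroup.zpowers x₀ := by
      refine (Subgroup.eq_of_le_of_card_ge hS ?_).symm
      rw [Nat.card_zpowers, orderOf_eq_prime (hordp x₀ hx₀p) hx₀1]; exact hTle S S.2
    have hy' : x' ∈ ((a • S : Sylow p H) : Subgroup H) := ha ▸ hT (Subgroup.mem_zpowers x')
    rw [Sylow.coe_subgroup_smul, hSeq] at hy'
    obtain ⟨z, hz, hze⟩ := hy'
    rw [← hze]
    exact (inferInstance : (commutator H).Normal).conj_mem z ((Subgroup.zpowers_le.2 hx₀) hz) a
  have hb := hb3 x' hxcomm hx'p (hns x' hx'p hx'1)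
  -- the image of `x - 1`
  set D : Module.End ℂ V := R x - 1 with hD
  set W := LinearMap.range D
  have hWV1 : W ≤ V1.toSubmodule := by
    rintro _ ⟨v, rfl⟩
    obtain ⟨a, ha, b, hb', rfl⟩ := Submodule.mem_sup.1 (hc.sup_eq_top ▸ Submodule.mem_top :
      v ∈ V1.toSubmodule ⊔ V2.toSubmodule)
    have h2 : D b = 0 := by
      rw [hD, LinearMap.sub_apply, Module.End.one_apply, sub_eq_zero]
      exact hfix x' hx'p b hb'
    rw [map_add, h2, add_zero, hD, LinearMap.sub_apply, Module.End.one_apply]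
    exact V1.toSubmodule.sub_mem (V1.apply_mem_toSubmodule x' ha) ha
  have hWdim : (p - 1) / 2 ≤ Module.finrank ℂ W := by
    have h1 := LinearMap.finrank_range_add_finrank_ker D
    have h2 : LinearMap.ker D ≤ (Module.End.eigenspace (RH x') 1 ⊓ V1.toSubmodule) ⊔ V2.toSubmodule := by
      intro v hv
      obtain ⟨a, ha, b, hb', rfl⟩ := Submodule.mem_sup.1 (hc.sup_eq_top ▸ Submodule.mem_top :
        v ∈ V1.toSubmodule ⊔ V2.toSubmodule)
      refine Submodule.mem_sup.2 ⟨a, ⟨Module.End.mem_eigenspace_iff.2 ?_, ha⟩, b, hb', rfl⟩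
      rw [LinearMap.mem_ker, hD, LinearMap.sub_apply, Module.End.one_apply, sub_eq_zero, map_add,
        show R x b = b from hfix x' hx'p b hb', add_left_inj] at hv
      rw [one_smul]; exact hv
    have h3 := (Submodule.finrank_mono h2).trans (Submodule.finrank_add_le_finrank_add_finrank _ _)
    change (p - 1) / 2 ≤ Module.finrank ℂ ↥(LinearMap.range D)
    omega
  -- a commutator with the central element fixes it
  have hQ : ¬ (Q : Subgroup G) ≤ H := by
    intro hle
    obtain ⟨i, hi⟩ := IsPGroup.iff_card.1 P.2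
    have h1 := hTle ((Q : Subgroup G).subgroupOf H)
      (Q.2.of_equiv (Subgroup.subgroupOfEquivOfLe hle).symm)
    rw [Nat.card_congr (Subgroup.subgroupOfEquivOfLe hle).toEquiv, Sylow.card_eq_multiplicity,
      ← Sylow.card_eq_multiplicity P] at h1
    rcases i with _ | _ | i
    · refine hnn ?_
      rw [Subgroup.eq_bot_of_card_eq (P : Subgroup G) (by rw [hi, pow_zero])]; infer_instance
    · exact hP (by rw [hi, pow_one])
    · rw [hi] at h1
      have h3 : p < p ^ (i + 1 + 1) := lt_self_pow₀ (Fact.out : p.Prime).one_lt (by omega)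
      omega
  obtain ⟨y, hyQ, hyH⟩ := SetLike.not_le_iff_exists.1 hQ
  have hnorm : g * y⁻¹ * g⁻¹ ∈ (Q : Subgroup G) := by
    refine mem_of_pcl_sub (pcl_centralizer hM P hnn hP ⟨kx, hkx⟩ hx1) Q ?_ ?_
      (conj_pow_one (pow_eq_one_of_mem Q.2 ((Q : Subgroup G).inv_mem hyQ)) g)
    · exact fun u hu => Subgroup.mem_centralizer_singleton_iff.2 (abelian_p hM _ Q.2 u hu x hx)
    · rw [Subgroup.mem_centralizer_singleton_iff]
      have h1 : y⁻¹ * x = x * y⁻¹ := abelian_p hM _ Q.2 _ ((Q : Subgroup G).inv_mem hyQ) x hx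
      have h2 : g⁻¹ * x = x * g⁻¹ := ((show Commute g x from hgx.symm).inv_left).eq
      calc g * y⁻¹ * g⁻¹ * x = g * (y⁻¹ * x) * g⁻¹ := by rw [mul_assoc, h2]; group
        _ = (g * x) * y⁻¹ * g⁻¹ := by rw [h1]; group
        _ = x * (g * y⁻¹ * g⁻¹) := by rw [← hgx]; group
  set q := y * (g * y⁻¹ * g⁻¹) with hq
  have hqQ : q ∈ (Q : Subgroup G) := (Q : Subgroup G).mul_mem hyQ hnorm
  have hq1 : q ≠ 1 := fun h => hyH (Subgroup.mem_centralizer_singleton_iff.2 (by
    have h' : y * g * y⁻¹ * g⁻¹ = 1 := by rw [← h, hq]; group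
    exact commutatorElement_eq_one_iff_mul_comm.1 (by rw [commutatorElement_def]; exact h')))
  have hgH : g ∈ H := Subgroup.mem_centralizer_singleton_iff.2 rfl
  obtain ⟨γ, hγ⟩ := scalarOn_of_central RH V1 hV1 (y := (⟨g, hgH⟩ : H)) (Subgroup.mem_center_iff.2 fun h =>
    Subtype.ext (Subgroup.mem_centralizer_singleton_iff.1 h.2))
  have hγ' : ∀ w ∈ W, R g w = γ • w := fun w hw => hγ w (hWV1 hw)
  have hyW : ∀ y ∈ (Q : Subgroup G), ∀ w ∈ W, R y w ∈ W := by
    rintro y hy _ ⟨v, rfl⟩
    refine ⟨R y v, ?_⟩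
    simp only [hD, LinearMap.sub_apply, Module.End.one_apply, map_sub]
    rw [← Module.End.mul_apply, ← map_mul, abelian_p hM _ Q.2 x hx y hy, map_mul, Module.End.mul_apply]
  have hqW : W ≤ Module.End.eigenspace (R q) 1 := by
    intro w hw
    rw [Module.End.mem_eigenspace_iff, one_smul]
    have hw' : R g⁻¹ w ∈ W ∧ R g (R g⁻¹ w) = w := by
      refine ⟨?_, by rw [← Module.End.mul_apply, ← map_mul, mul_inv_cancel, map_one, Module.End.one_apply]⟩
      have h1 : R g⁻¹ (γ • w) = w := by
        rw [← hγ' w hw, ← Module.End.mul_apply, ← map_mul, inv_mul_cancel, map_one, Module.End.one_apply]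
      rw [map_smul] at h1
      rcases eq_or_ne γ 0 with h0 | h0
      · rw [h0, zero_smul] at h1; rw [← h1, map_zero]; exact W.zero_mem
      · rw [show R g⁻¹ w = γ⁻¹ • w by conv_rhs => rw [← h1, inv_smul_smul₀ h0]]
        exact W.smul_mem _ hw
    rw [hq, show y * (g * y⁻¹ * g⁻¹) = y * g * y⁻¹ * g⁻¹ by group]
    simp only [map_mul, Module.End.mul_apply]
    have h2 := hyW y⁻¹ ((Q : Subgroup G).inv_mem hyQ) _ hw'.1
    rw [hγ' _ h2, map_smul, ← Module.End.mul_apply (R y), ← map_mul, mul_inv_cancel, map_one,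
      Module.End.one_apply, ← hγ' _ hw'.1, hw'.2]
  have h1 := Submodule.finrank_mono hqW
  have h2 := no_large_mult hM P hnn hP (pow_eq_one_of_mem Q.2 hqQ) hq1 1
  omega

/-- The Sylow subgroup has order `p` once the centre has order prime to `p`. -/
theorem small_all (p : ℕ) [Fact p.Prime] : ∀ N, Small.{u} p N := by
  intro N
  induction N using Nat.strong_induction_on with
  | _ N ih =>
  intro G _ _ hlt d R hR hirr hd hZ P hnn
  classical
  haveI := hirr
  haveI := Fintype.ofFinite G
  have hdfin : Module.finrank ℂ (Fin d → ℂ) = d := Module.finrank_fin_fun ℂ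
  have hp := (Fact.out : p.Prime)
  by_contra hP
  obtain ⟨i, hi⟩ := IsPGroup.iff_card.1 P.2
  have hi2 : 2 ≤ i := by
    rcases i with _ | _ | i
    · exact (hnn (by rw [Subgroup.eq_bot_of_card_eq (P : Subgroup G) (by rw [hi, pow_zero])]; infer_instance)).elim
    · exact (hP (by rw [hi, pow_one])).elim
    · omega
  have hd0 : d ≠ 0 := fun h0 => by
    subst h0
    obtain ⟨a, b, hab⟩ := (inferInstance : Nontrivial (Subrepresentation R))
    exact hab (Subrepresentation.toSubmodule_injective (Subsingleton.elim _ _))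
  have hd2 : 2 ≤ d := by
    by_contra h1
    have hcent : ∀ y : G, y ∈ Subgroup.center G := fun y => Subgroup.mem_center_iff.2 fun z => by
      obtain rfl : d = 1 := by omega
      have hs : ∀ y : G, ∀ v : Fin 1 → ℂ, R y v = R y (fun _ => 1) 0 • v := fun y v => by
        have hv : v = v 0 • (fun _ => (1 : ℂ)) := funext fun j => by
          rw [Subsingleton.elim j 0]; simp
        conv_lhs => rw [hv]
        funext j
        rw [Subsingleton.elim j 0, map_smul]
        simp [mul_comm]
      refine hR (LinearMap.ext fun v => ?_)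
      rw [map_mul, map_mul, Module.End.mul_apply, Module.End.mul_apply, hs z (R y v), hs z v, map_smul]
    refine hnn ⟨fun z hz g => ?_⟩
    rwa [Subgroup.mem_center_iff.1 (hcent z) g, mul_inv_cancel_right]
  have hp5 : 5 ≤ p := by
    by_contra h5
    have : p = 4 := by omega
    rw [this] at hp
    norm_num at hp
  have hM : Min p R := ⟨hR, hirr, by omega, hp5, ih _ hlt, hZ⟩
  have hab : ∀ a ∈ (P : Subgroup G), ∀ b ∈ (P : Subgroup G), a * b = b * a := abelian_p hM _ P.2
  have hPZ : (P : Subgroup G) ⊓ Subgroup.center G = ⊥ := by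
    rw [Subgroup.eq_bot_iff_forall]
    intro z hz
    exact central_eq_one hM (pow_eq_one_of_mem P.2 hz.1) hz.2
  have hone : ∀ g : G, g ∉ Subgroup.center G → ∀ a b : G,
      Subgroup.centralizer ({g} : Set G) ⊓ (P : Subgroup G).map (MulAut.conj a).toMonoidHom ≠ ⊥ →
      Subgroup.centralizer ({g} : Set G) ⊓ (P : Subgroup G).map (MulAut.conj b).toMonoidHom ≠ ⊥ →
      (P : Subgroup G).map (MulAut.conj a).toMonoidHom = (P : Subgroup G).map (MulAut.conj b).toMonoidHom := by
    intro g hg a b hna hnb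
    have hsm : ∀ c : G, (P : Subgroup G).map (MulAut.conj c).toMonoidHom = ((c • P : Sylow p G) : Subgroup G) :=
      fun c => by rw [Sylow.coe_subgroup_smul]; rfl
    rw [hsm] at hna ⊢
    rw [hsm] at hnb ⊢
    obtain ⟨x, hx, hx1⟩ := (Subgroup.bot_or_exists_ne_one _).resolve_left hna
    obtain ⟨y, hy, hy1⟩ := (Subgroup.bot_or_exists_ne_one _).resolve_left hnb
    rw [Subgroup.mem_inf, Subgroup.mem_centralizer_singleton_iff] at hx hy
    set Qa : Sylow p G := a • P
    set Qb : Sylow p G := b • P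
    have hcl := pcl_centralizer_of_commute hM P hnn hP hg Qa hx.2 hx1 hx.1
    have key : ∀ (Q : Sylow p G) (u w : G), u ∈ (Q : Subgroup G) → u ≠ 1 → w * u = u * w →
        (∃ k, w ^ p ^ k = 1) → w ∈ (Q : Subgroup G) := by
      intro Q u w hu hu1 hwu hw
      exact mem_of_pcl_sub (pcl_centralizer hM P hnn hP (pow_eq_one_of_mem Q.2 hu) hu1) Q
        (fun t ht => Subgroup.mem_centralizer_singleton_iff.2 (abelian_p hM _ Q.2 t ht u hu))
        (Subgroup.mem_centralizer_singleton_iff.2 hwu) hw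
    have hxy : y * x = x * y := commute_of_pcl hM hcl (Subgroup.mem_centralizer_singleton_iff.2 hy.1)
      (Subgroup.mem_centralizer_singleton_iff.2 hx.1) (pow_eq_one_of_mem Qb.2 hy.2) (pow_eq_one_of_mem Qa.2 hx.2)
    have hya : y ∈ (Qa : Subgroup G) := key Qa x y hx.2 hx1 hxy (pow_eq_one_of_mem Qb.2 hy.2)
    apply le_antisymm
    · intro u hu
      exact key Qb y u hy.2 hy1 (abelian_p hM _ Qa.2 u hu y hya) (pow_eq_one_of_mem Qa.2 hu)
    · intro u hu
      exact key Qa y u hya hy1 (abelian_p hM _ Qb.2 u hu y hy.2) (pow_eq_one_of_mem Qb.2 hu)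
  have hb := CfsgLib.CharTheory.FTBound.bound' (P : Subgroup G) hab hPZ hone (isIrrCharacter_character R)
    (d := d) (by rw [R.char_one, hdfin]) hd2 fun M hM' hPM => normal_top hM P hnn hP M hM' hPM
  have h1 : p ^ 2 ≤ Nat.card (P : Subgroup G) := hi ▸ Nat.pow_le_pow_right hp.pos hi2
  have h2 : (1 + d) ^ 2 < p ^ 2 := Nat.pow_lt_pow_left (by omega) two_ne_zero
  omega

end CfsgLib.LinearSmall
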