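import Cfsg.Agent.Lib.CharTheory.ProjExt
import Cfsg.Agent.Lib.CharTheory.Degree
import Cfsg.Agent.Lib.LinearGroups.SmallDegreeClosed

/-!
# Removing the scalars of `p`-power order
-/

namespace CfsgLib.LinearSmall

open Cfsg CfsgLib.CharTheory
open CfsgLib.LinearGroups.SmallClosed (PCl)

set_option linter.unusedVariables false
set_option linter.style.haveILetI false
set_option linter.unusedSectionVars false

universe u v

/-- A subrepresentation-preserving rescaling keeps irreducibility. -/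
theorem isIrreducible_of_scaled {G : Type u} [Group G] {H : Type*} [Group H] {V : Type v}
    [AddCommGroup V] [Module ℂ V] (R : Representation ℂ G V) [R.IsIrreducible] (R' : Representation ℂ H V)
    (τ : G → H) (hτ : ∀ g : G, ∃ c : ℂ, c ≠ 0 ∧ R' (τ g) = c • R g) (hs : Function.Surjective τ) :
    R'.IsIrreducible := by
  have hmem : ∀ (W : Submodule ℂ V) (g : G) (v : V), R g v ∈ W ↔ R' (τ g) v ∈ W := fun W g v => by
    obtain ⟨c, hc, h⟩ := hτ g
    rw [h, LinearMap.smul_apply, W.smul_mem_iff hc]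
  let e : Subrepresentation R ≃o Subrepresentation R' :=
    { toFun := fun W => ⟨W.toSubmodule, fun h v hv => by
        obtain ⟨g, rfl⟩ := hs h
        exact (hmem _ g v).1 (W.apply_mem_toSubmodule g hv)⟩
      invFun := fun W => ⟨W.toSubmodule, fun g v hv => (hmem _ g v).2 (W.apply_mem_toSubmodule (τ g) hv)⟩
      left_inv := fun W => rfl
      right_inv := fun W => rfl
      map_rel_iff' := fun {a b} => Iff.rfl }
  exact (OrderIso.isSimpleOrder_iff e).mp inferInstance

variable {p : ℕ} [Fact p.Prime] {G : Type u} [Group G] [Finite G] {V : Type v} [AddCommGroup V]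
  [Module ℂ V] [FiniteDimensional ℂ V]

/-- Closedness lifts through a kernel of `p`-power exponent. -/
theorem pcl_of_map {H : Type*} [Group H] (τ : G →* H) (hker : ∀ g, τ g = 1 → ∃ k, g ^ p ^ k = 1)
    (h : PCl p H) : PCl p G := by
  intro a b ⟨i, hi⟩ ⟨j, hj⟩
  obtain ⟨k, hk⟩ := h (τ a) (τ b) ⟨i, by rw [← map_pow, hi, map_one]⟩ ⟨j, by rw [← map_pow, hj, map_one]⟩
  obtain ⟨l, hl⟩ := hker ((a * b) ^ p ^ k) (by rw [map_pow, map_mul, hk])
  exact ⟨k + l, by rw [pow_add, pow_mul, hl]⟩

/-- Twisting by a power of the determinant removes the scalars of `p`-power order. -/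
theorem exists_twist (R : Representation ℂ G V) (hR : Function.Injective R) [R.IsIrreducible]
    (hd : Module.finrank ℂ V + 1 < p) :
    ∃ (Gb : Type u) (_ : Group Gb) (_ : Finite Gb) (τ : G →* Gb) (R' : Representation ℂ Gb V),
      Function.Surjective τ ∧ Function.Injective R' ∧ R'.IsIrreducible ∧
      ¬ p ∣ Nat.card (Subgroup.center Gb) ∧
      (∀ g, ∃ c : ℂ, c ≠ 0 ∧ R' (τ g) = c • R g) ∧
      (∀ g, τ g = 1 → g ∈ Subgroup.center G) ∧
      (∀ g, τ g = 1 → ∃ k, g ^ p ^ k = 1) ∧
      (∀ g ∈ commutator G, R' (τ g) = R g) := by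
  classical
  have hp : p.Prime := Fact.out
  set d := Module.finrank ℂ V with hddef
  have hd0 : d ≠ 0 := fun h0 => by
    haveI : Subsingleton V := Module.finrank_zero_iff.mp h0
    obtain ⟨x, y, hxy⟩ := (inferInstance : Nontrivial (Subrepresentation R))
    exact hxy (Subrepresentation.toSubmodule_injective (Subsingleton.elim _ _))
  obtain ⟨a, m, hm, hN⟩ := Nat.exists_eq_pow_mul_and_not_dvd (Nat.card_pos (α := G)).ne' p hp.ne_one
  have hmd : (m * d).Coprime (p ^ a) := Nat.Coprime.pow_right a ((hp.coprime_iff_not_dvd.2 fun h =>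
    (hp.dvd_mul.1 h).elim hm fun h' => by
      have := Nat.le_of_dvd (Nat.pos_of_ne_zero hd0) h'
      omega).symm)
  set j : ℕ := (-((ZMod.unitOfCoprime _ hmd)⁻¹ : (ZMod (p ^ a))ˣ) : ZMod (p ^ a)).val with hj
  set k := m * j with hk
  have hkd : p ^ a ∣ k * d + 1 := by
    haveI : NeZero (p ^ a) := ⟨pow_ne_zero _ hp.ne_zero⟩
    rw [← ZMod.natCast_eq_zero_iff, Nat.cast_add, Nat.cast_one, hk, mul_right_comm, Nat.cast_mul, hj,
      ZMod.natCast_zmod_val, mul_neg, ← ZMod.coe_unitOfCoprime (m * d) hmd, Units.mul_inv, neg_add_cancel]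
  have hNG : ∀ g : G, (detHom R g) ^ (p ^ a * m) = 1 := fun g => by
    rw [← map_pow, ← hN, pow_card_eq_one', map_one]
  let c : G →* ℂ := (Units.coeHom ℂ).comp ((powMonoidHom k).comp (detHom R))
  have hc0 : ∀ g, c g ≠ 0 := fun g => Units.ne_zero _
  let R₁ : Representation ℂ G V :=
    { toFun := fun g => c g • R g
      map_one' := by rw [map_one, map_one, one_smul]
      map_mul' := fun g h => by rw [map_mul, map_mul, smul_mul_smul_comm] }
  let N : Subgroup G :=
    { carrier := {g | R₁ g = 1}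
      one_mem' := map_one R₁
      mul_mem' := fun {a b} ha hb => show R₁ (a * b) = 1 by rw [map_mul, ha, hb, mul_one]
      inv_mem' := fun {a} ha => show R₁ a⁻¹ = 1 by
        calc R₁ a⁻¹ = R₁ a⁻¹ * R₁ a := by rw [ha, mul_one]
          _ = 1 := by rw [← map_mul, inv_mul_cancel, map_one] }
  haveI hNn : N.Normal := ⟨fun n hn g => show R₁ (g * n * g⁻¹) = 1 by
    rw [map_mul, map_mul, hn, mul_one, ← map_mul, mul_inv_cancel, map_one]⟩
  have hkerN : ∀ g, (QuotientGroup.mk' N g : G ⧸ N) = 1 ↔ R₁ g = 1 := fun g => QuotientGroup.eq_one_iff g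
  let R' : Representation ℂ (G ⧸ N) V :=
    { toFun := Quotient.lift (fun g => R₁ g) fun a b hab => by
        rw [← mul_one (R₁ a), ← (QuotientGroup.leftRel_apply.1 hab : R₁ (a⁻¹ * b) = 1), ← map_mul,
          mul_inv_cancel_left]
      map_one' := map_one R₁
      map_mul' := fun x y => by
        obtain ⟨g, rfl⟩ := QuotientGroup.mk'_surjective N x
        obtain ⟨h, rfl⟩ := QuotientGroup.mk'_surjective N y
        exact map_mul R₁ g h }
  have hR' : ∀ g, R' (QuotientGroup.mk' N g) = c g • R g := fun g => rfl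
  have hsurj := QuotientGroup.mk'_surjective N
  have hirr : R'.IsIrreducible :=
    isIrreducible_of_scaled R R' (QuotientGroup.mk' N) (fun g => ⟨c g, hc0 g, hR' g⟩) hsurj
  have hinj : Function.Injective R' := by
    intro x y hxy
    obtain ⟨g, rfl⟩ := hsurj x
    obtain ⟨h, rfl⟩ := hsurj y
    refine (QuotientGroup.eq (s := N)).2 (show R₁ (g⁻¹ * h) = 1 from ?_)
    change R₁ g = R₁ h at hxy
    rw [map_mul, ← hxy, ← map_mul, inv_mul_cancel, map_one]
  refine ⟨G ⧸ N, inferInstance, inferInstance, QuotientGroup.mk' N, R', hsurj, hinj, hirr, ?_,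
    fun g => ⟨c g, hc0 g, hR' g⟩, fun g hg => ?_, fun g hg => ?_, fun g hg => ?_⟩
  · intro hdvd
    haveI := hirr
    haveI : Finite (Subgroup.center (G ⧸ N)) := inferInstance
    obtain ⟨z, hz⟩ := exists_prime_orderOf_dvd_card' p hdvd
    obtain ⟨g, hg⟩ := hsurj (z : G ⧸ N)
    obtain ⟨ω, hω⟩ := exists_scalar_of_mem_center R' z.2
    have hz1 : (z : G ⧸ N) ≠ 1 := fun h => hp.ne_one (by
      rw [← hz, ← Subgroup.orderOf_coe, h, orderOf_one])
    apply hz1
    apply hinj
    rw [hω, map_one]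
    have h1 : ω ^ d = ((detHom R g) ^ (k * d + 1) : ℂˣ) := by
      have h2 := congrArg LinearMap.det hω
      rw [LinearMap.det_smul, LinearMap.det_id, mul_one, ← hg, hR', LinearMap.det_smul] at h2
      rw [← h2, pow_succ, pow_mul, Units.val_mul, Units.val_pow_eq_pow_val, coe_detHom]
      rfl
    have h3 : (ω ^ d) ^ m = 1 := by
      obtain ⟨q, hq⟩ := hkd
      rw [h1, ← Units.val_pow_eq_pow_val, ← pow_mul, hq, mul_right_comm, pow_mul, hNG, one_pow,
        Units.val_one]
    have h4 : ω ^ p = 1 := by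
      haveI : Nontrivial V := Module.nontrivial_of_finrank_pos (R := ℂ) (Nat.pos_of_ne_zero hd0)
      have h5 : R' ((z : G ⧸ N) ^ p) = (ω ^ p) • LinearMap.id := by
        rw [map_pow, hω, ← Module.End.one_eq_id, smul_pow, one_pow]
      rw [show (z : G ⧸ N) ^ p = 1 by rw [← hz, ← Subgroup.orderOf_coe, pow_orderOf_eq_one], map_one] at h5
      have h6 := LinearMap.congr_fun h5
      obtain ⟨v, hv⟩ := exists_ne (0 : V)
      have := h6 v
      rw [LinearMap.smul_apply, LinearMap.id_apply, Module.End.one_apply] at this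
      exact smul_left_injective ℂ hv (this.symm.trans (one_smul ℂ v).symm)
    rw [← pow_mul] at h3
    have hcop : p.Coprime (d * m) := hp.coprime_iff_not_dvd.2 fun h =>
      (hp.dvd_mul.1 h).elim (fun h' => by
        have := Nat.le_of_dvd (Nat.pos_of_ne_zero hd0) h'
        omega) hm
    have h7 := pow_gcd_eq_one.2 ⟨h4, h3⟩
    rw [hcop, pow_one] at h7
    rw [h7, one_smul, Module.End.one_eq_id]
  · have h1 : c g • R g = 1 := (hkerN g).1 hg
    rw [Subgroup.mem_center_iff]
    intro h
    refine hR ?_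
    rw [map_mul, map_mul]
    have h2 : R g = (c g)⁻¹ • 1 := by rw [← h1, inv_smul_smul₀ (hc0 g)]
    rw [h2, mul_smul_comm, smul_mul_assoc, mul_one, one_mul]
  · have h1 : c g • R g = 1 := (hkerN g).1 hg
    refine ⟨a, hR ?_⟩
    have hcpa : c g ^ p ^ a = 1 := by
      show ((((detHom R g) ^ k : ℂˣ) : ℂ)) ^ p ^ a = 1
      rw [← Units.val_pow_eq_pow_val, ← pow_mul, hk,
        show m * j * p ^ a = p ^ a * m * j by ring, pow_mul, hNG, one_pow, Units.val_one]
    have h2 := congrArg (fun T => T ^ p ^ a) h1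
    simp only [smul_pow, one_pow, hcpa, one_smul] at h2
    rw [map_pow, h2, map_one]
  · have h1 : c g = 1 := by
      have hle : commutator G ≤ ((powMonoidHom k).comp (detHom R)).ker :=
        Abelianization.commutator_subset_ker _
      show ((((powMonoidHom k).comp (detHom R)) g : ℂˣ) : ℂ) = 1
      rw [MonoidHom.mem_ker.1 (hle hg), Units.val_one]
    rw [hR', h1, one_smul]

end CfsgLib.LinearSmall
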