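import Cfsg.Agent.Lib.LinearSmall.Order
import Cfsg.Agent.Lib.FeitSmall.Main
import Cfsg.Agent.Lib.StSL.Two
import Cfsg.Agent.Lib.SmallSylow.Apply

/-!
# Reduction to a Sylow subgroup of prime order
-/

namespace CfsgLib.LinearSmall

open Cfsg CfsgLib.CharTheory CfsgLib.Blocks
open CfsgLib.LinearGroups.SmallClosed (PCl mem_sylow_of_pcl conj_pow_one pow_eq_one_of_mem pcl_of_normal)

set_option linter.unusedVariables false
set_option linter.style.haveILetI false
set_option linter.unusedSectionVars false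

universe u

variable {p : ℕ} [Fact p.Prime] {G : Type u} [Group G] [Finite G]

/-- The reduced configuration. -/
structure Reduced (p d : ℕ) (G : Type u) [Group G] (Gb : Type u) [Group Gb] [Fintype Gb] (τ : G →* Gb)
    (ζ : IrrCharacter Gb) (Pb : Sylow p Gb) : Prop where
  surj : Function.Surjective τ
  ker : ∀ g, τ g ∈ Subgroup.center Gb ↔ g ∈ Subgroup.center G
  injc : ∀ g ∈ commutator G, τ g = 1 → g = 1
  faith : ∀ g : Gb, (ζ : Gb → ℂ) g = (ζ : Gb → ℂ) 1 → g = 1
  deg : charDegree (ζ : Gb → ℂ) = d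
  card : Nat.card Pb = p
  nnorm : ¬ (Pb : Subgroup Gb).Normal
  two_le : 2 ≤ d
  five : 5 ≤ p

theorem exists_reduced (χ : IrrCharacter G) {d : ℕ} (hdeg : charDegree (χ : G → ℂ) = d)
    (hfaith : ∀ g : G, (χ : G → ℂ) g = (χ : G → ℂ) 1 → g = 1) (hp : d + 1 < p) (P : Sylow p G)
    (hnn : ¬ (P : Subgroup G).Normal) :
    ∃ (Gb : Type u) (_ : Group Gb) (_ : Fintype Gb) (τ : G →* Gb) (ζ : IrrCharacter Gb) (Pb : Sylow p Gb),
      Reduced p d G Gb τ ζ Pb := by
  classical
  letI := Fintype.ofFinite G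
  subst hdeg
  set d := charDegree (χ : G → ℂ) with hd
  obtain ⟨R, hR, hirr, hRχ⟩ := CfsgLib.FeitSmall.exists_rep χ hfaith
  haveI := hirr
  obtain ⟨Gb, i1, i2, τ, R', hs, hinj, hirr', hcen, hsc, hkc, hkp, heq⟩ :=
    exists_twist (p := p) R hR (by rw [Module.finrank_fin_fun]; exact hp)
  letI := i1
  letI := Fintype.ofFinite Gb
  haveI := hirr'
  have hcenmap : ∀ g, τ g ∈ Subgroup.center Gb → g ∈ Subgroup.center G := by
    intro g hg
    obtain ⟨ω, hω⟩ := exists_scalar_of_mem_center R' hg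
    obtain ⟨c, hc, hcg⟩ := hsc g
    rw [hω] at hcg
    rw [Subgroup.mem_center_iff]
    intro k
    refine hR ?_
    have h2 : R g = (c⁻¹ * ω) • LinearMap.id := by rw [← smul_smul, hcg, inv_smul_smul₀ hc]
    rw [map_mul, map_mul, h2, ← Module.End.one_eq_id, mul_smul_comm, smul_mul_assoc, mul_one, one_mul]
  obtain ⟨Pb⟩ := (inferInstance : Nonempty (Sylow p Gb))
  have hnb : ¬ (Pb : Subgroup Gb).Normal := fun h => by
    have hG : PCl p G := pcl_of_map τ hkp (pcl_of_normal Pb h)
    refine hnn ⟨fun z hz a => ?_⟩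
    exact mem_sylow_of_pcl hG P (conj_pow_one (pow_eq_one_of_mem P.2 hz) a)
  have hcard : Nat.card Pb = p :=
    small_all p (Nat.card Gb + 1) Gb (Nat.lt_succ_self _) d R' hinj hirr' hp hcen Pb hnb
  have hd2 : 2 ≤ d := by
    by_contra h1
    refine hnn ⟨fun z hz a => ?_⟩
    have hs : ∀ y : G, ∃ c : ℂ, R y = c • LinearMap.id := by
      intro y
      rcases (show d = 0 ∨ d = 1 by omega) with h0 | h0
      · exact absurd h0 fun h0 => irr_one_ne_zero χ (by rw [← irr_charDegree_cast, ← hd, h0, Nat.cast_zero])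
      · have hfr : Module.finrank ℂ (Fin d → ℂ) = 1 := by rw [Module.finrank_fin_fun]; exact h0
        obtain ⟨v, hv0, hv⟩ := finrank_eq_one_iff'.1 hfr
        obtain ⟨c, hc⟩ := hv (R y v)
        refine ⟨c, LinearMap.ext fun u => ?_⟩
        obtain ⟨b, rfl⟩ := hv u
        rw [map_smul, ← hc, LinearMap.smul_apply, LinearMap.id_apply, smul_comm]
    have hz' : z ∈ Subgroup.center G := by
      rw [Subgroup.mem_center_iff]
      intro k
      obtain ⟨c, hc⟩ := hs z
      exact hR (by rw [map_mul, map_mul, hc, ← Module.End.one_eq_id, mul_smul_comm, smul_mul_assoc, mul_one, one_mul])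
    rwa [Subgroup.mem_center_iff.1 hz' a, mul_inv_cancel_right]
  have hp5 : 5 ≤ p := by
    by_contra h5
    have : p = 4 := by omega
    exact absurd ((Fact.out : p.Prime)) (this ▸ by norm_num)
  have hirrζ : IsIrrCharacter Gb R'.character := isIrrCharacter_character R'
  refine ⟨Gb, i1, Fintype.ofFinite Gb, τ, ⟨R'.character, hirrζ⟩, Pb,
    hs, fun g => ⟨hcenmap g, fun hg => Subgroup.mem_center_iff.2 fun y => ?_⟩, fun g hg h1 => hR ?_,
    fun g hg => hinj ?_, ?_, hcard, hnb, hd2, hp5⟩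
  · obtain ⟨a, rfl⟩ := hs y
    rw [← map_mul, ← map_mul, Subgroup.mem_center_iff.1 hg a]
  · rw [← heq g hg, h1, map_one, map_one]
  · rw [rep_apply_eq_one_of_char_eq R' hg, map_one]
  · apply Nat.cast_injective (R := ℂ)
    rw [irr_charDegree_cast]
    show R'.character 1 = _
    rw [R'.char_one, Module.finrank_fin_fun]

variable {d : ℕ} {Gb : Type u} [Group Gb] [Fintype Gb] {τ : G →* Gb} {ζ : IrrCharacter Gb} {Pb : Sylow p Gb}

/-- The central quotients agree. -/
theorem Reduced.central_quotient (h : Reduced p d G Gb τ ζ Pb) :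
    Nonempty ((G ⧸ Subgroup.center G) ≃* (Gb ⧸ Subgroup.center Gb)) := by
  set f := (QuotientGroup.mk' (Subgroup.center Gb)).comp τ
  have hker : f.ker = Subgroup.center G := by
    ext g
    rw [MonoidHom.mem_ker, ← h.ker g]
    exact QuotientGroup.eq_one_iff _
  exact ⟨(QuotientGroup.quotientMulEquivOfEq hker.symm).trans
    (QuotientGroup.quotientKerEquivOfSurjective f ((QuotientGroup.mk'_surjective _).comp h.surj))⟩

/-- A direct factor lifts. -/
theorem Reduced.split_sl (h : Reduced p d G Gb τ ζ Pb) {F : Type} [Field F] [Fintype F] {m : ℕ}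
    (hF : Fintype.card F = 2 ^ m) (hm : 2 ≤ m)
    (e : Gb ≃* Matrix.SpecialLinearGroup (Fin 2) F × Subgroup.center Gb) :
    ∃ (A : Type) (_ : CommGroup A) (_ : Finite A), Nonempty (G ≃* Matrix.SpecialLinearGroup (Fin 2) F × A) := by
  classical
  have hperf : commutator (Matrix.SpecialLinearGroup (Fin 2) F) = ⊤ := by
    refine CfsgLib.StSL.perfect_SL2 ?_
    rw [hF]
    exact (show 4 = 2 ^ 2 from rfl) ▸ Nat.pow_le_pow_right (by norm_num) hm
  have hbot : Subgroup.center (Matrix.SpecialLinearGroup (Fin 2) F) = ⊥ := by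
    apply Subgroup.eq_bot_of_card_eq
    rw [SLCard.card_SL_center (by norm_num), hF]
    have h4 : ¬ 2 ∣ 2 ^ m - 1 := by
      obtain ⟨j, rfl⟩ := Nat.exists_eq_succ_of_ne_zero (show m ≠ 0 by omega)
      have : 1 ≤ 2 ^ j := Nat.one_le_two_pow
      rw [pow_succ]
      omega
    exact (Nat.prime_two.coprime_iff_not_dvd).2 h4
  set f : G →* Matrix.SpecialLinearGroup (Fin 2) F :=
    (MonoidHom.fst _ _).comp (e.toMonoidHom.comp τ) with hf
  have hf2 : ∀ g ∈ commutator G, (e (τ g)).2 = 1 := by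
    intro g hg
    have hle : commutator G ≤ ((MonoidHom.snd (Matrix.SpecialLinearGroup (Fin 2) F) (Subgroup.center Gb)).comp
        (e.toMonoidHom.comp τ)).ker := by
      rw [commutator_def, Subgroup.commutator_le]
      intro a _ b _
      rw [MonoidHom.mem_ker, map_commutatorElement, commutatorElement_eq_one_iff_mul_comm]
      exact Subtype.ext (Subgroup.mem_center_iff.1 (Subtype.prop _) _)
    exact hle hg
  have hfs : Function.Surjective f :=
    Prod.fst_surjective.comp (e.surjective.comp h.surj)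
  let f₀ : commutator G →* Matrix.SpecialLinearGroup (Fin 2) F := f.comp (commutator G).subtype
  have hb : Function.Bijective f₀ := by
    refine ⟨(injective_iff_map_eq_one f₀).2 fun g hg => Subtype.ext (h.injc g g.2 (e.injective ?_)), fun s => ?_⟩
    · rw [map_one]; exact Prod.ext hg (hf2 g g.2)
    · have hmap : (commutator G).map f = ⊤ := by
        rw [commutator_def, Subgroup.map_commutator, Subgroup.map_top_of_surjective f hfs, ← commutator_def, hperf]
      obtain ⟨g, hg, hgs⟩ := Subgroup.mem_map.1 (hmap ▸ Subgroup.mem_top s : s ∈ (commutator G).map f)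
      exact ⟨⟨g, hg⟩, hgs⟩
  let e₀ := MulEquiv.ofBijective f₀ hb
  have hcen : ∀ g, f g = 1 → g ∈ Subgroup.center G := fun g hg => (h.ker g).1 (by
    rw [Subgroup.mem_center_iff]
    intro y
    apply e.injective
    rw [map_mul, map_mul]
    exact Prod.ext
      (by show (e y).1 * f g = f g * (e y).1; rw [hg, mul_one, one_mul])
      (Subtype.ext (Subgroup.mem_center_iff.1 (e (τ g)).2.2 _)))
  have htriv : ∀ g ∈ commutator G, g ∈ Subgroup.center G → g = 1 := by
    intro g hg hgc
    have h1 : f g ∈ Subgroup.center (Matrix.SpecialLinearGroup (Fin 2) F) := by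
      rw [Subgroup.mem_center_iff]
      intro s
      obtain ⟨y, rfl⟩ := hfs s
      rw [← map_mul, ← map_mul, Subgroup.mem_center_iff.1 hgc y]
    rw [hbot, Subgroup.mem_bot] at h1
    exact congrArg Subtype.val (hb.1 (a₁ := ⟨g, hg⟩) (a₂ := 1) (by rw [map_one]; exact h1))
  let ψ : commutator G × Subgroup.center G →* G :=
    { toFun := fun q => (q.1 : G) * q.2
      map_one' := by simp
      map_mul' := fun q q' => by
        show (q.1 : G) * q'.1 * ((q.2 : G) * q'.2) = (q.1 : G) * q.2 * ((q'.1 : G) * q'.2)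
        calc (q.1 : G) * q'.1 * ((q.2 : G) * q'.2) = q.1 * (q'.1 * q.2) * q'.2 := by group
          _ = q.1 * (q.2 * q'.1) * q'.2 := by rw [Subgroup.mem_center_iff.1 q.2.2]
          _ = _ := by group }
  have hψ : Function.Bijective ψ := by
    refine ⟨(injective_iff_map_eq_one ψ).2 fun q hq => ?_, fun g => ?_⟩
    · have hq' : (q.1 : G) * q.2 = 1 := hq
      have h1 : (q.1 : G) = 1 := htriv q.1 q.1.2 (by rw [eq_inv_of_mul_eq_one_left hq']; exact inv_mem q.2.2)
      rw [h1, one_mul] at hq'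
      exact Prod.ext (Subtype.ext h1) (Subtype.ext hq')
    · obtain ⟨l, hl⟩ := hb.2 (f g)
      refine ⟨(l, ⟨(l : G)⁻¹ * g, hcen _ ?_⟩), mul_inv_cancel_left _ _⟩
      rw [map_mul, map_inv, ← hl]
      exact inv_mul_cancel _
  letI : CommGroup (Subgroup.center G) :=
    { (inferInstance : Group (Subgroup.center G)) with
      mul_comm := fun a b => Subtype.ext (Subgroup.mem_center_iff.1 b.2 a) }
  exact ⟨Shrink.{0} (Subgroup.center G), inferInstance, Finite.of_equiv _ (equivShrink _),
    ⟨(MulEquiv.ofBijective ψ hψ).symm.trans (e₀.prodCongr (Shrink.mulEquiv).symm)⟩⟩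

end CfsgLib.LinearSmall
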